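import Cfsg.Agent.NineEight.Union
import Cfsg.Agent.SelfCentThree.Chars
import Cfsg.Agent.NineTwoPrimes.Inversion
import Cfsg.Agent.Blocks.WeakOrth
import Cfsg.Agent.CharArith.Central
import Cfsg.Agent.S0910

/-!
# The column of an element of order three when all such elements are conjugate
-/

set_option autoImplicit false

namespace Cfsg.Agent.NineEight

open Cfsg Cfsg.Agent Subgroup
open Cfsg.Agent.ThreeTINine (TI)
open Cfsg.Agent.SelfCentThree (Inv cj mem_cj card_mod_three conj_mem_of_norm inv_conj_mem_of_norm)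
open scoped ComplexConjugate
open scoped _root_.Classical

universe u

variable {G : Type u} [Group G] [Fintype G] {S : Subgroup G} {x : G}

/-- A set of elements closed under right translation by `S`, by its image. -/
theorem Pt.card_eq_nine_mul (h : Pt S x) (T : Finset G) (hT : ∀ g ∈ T, ∀ s ∈ S, g * s ∈ T) :
    T.card = 9 * (T.image fun g => g * x * g⁻¹).card := by
  rw [Finset.card_eq_sum_card_image (fun g => g * x * g⁻¹) T]
  rw [Finset.sum_congr rfl (g := fun _ => 9), Finset.sum_const, smul_eq_mul, mul_comm]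
  intro y hy
  obtain ⟨g0, hg0, rfl⟩ := Finset.mem_image.1 hy
  have e : (T.filter fun g => g * x * g⁻¹ = g0 * x * g0⁻¹) =
      (Finset.univ.filter (· ∈ S)).image (g0 * ·) := by
    ext g
    simp only [Finset.mem_filter, Finset.mem_image, Finset.mem_univ, true_and]
    constructor
    · rintro ⟨-, hg⟩
      refine ⟨g0⁻¹ * g, h.mem_of_commute ?_, by group⟩
      calc g0⁻¹ * g * x = g0⁻¹ * (g * x * g⁻¹) * g := by group
        _ = g0⁻¹ * (g0 * x * g0⁻¹) * g := by rw [hg]
        _ = x * (g0⁻¹ * g) := by group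
    · rintro ⟨s, hs, rfl⟩
      refine ⟨hT g0 hg0 s hs, ?_⟩
      calc g0 * s * x * (g0 * s)⁻¹ = g0 * (s * x) * s⁻¹ * g0⁻¹ := by group
        _ = g0 * (x * s) * s⁻¹ * g0⁻¹ := by rw [h.ti.comm s hs x h.mem]
        _ = g0 * x * g0⁻¹ := by group
  rw [e, Finset.card_image_of_injective _ (mul_right_injective g0), ← Fintype.card_subtype,
    ← Nat.card_eq_fintype_card]
  exact h.ti.card

variable (hfus : ∀ g : G, g ^ 3 = 1 → g ≠ 1 → IsConj x g)
include hfus

/-- The number of conjugates of `x`, and their distribution. -/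
theorem Pt.card_class (h : Pt S x) :
    72 ∣ Nat.card G ∧ ∃ m, Nat.card G = 9 * (8 + 9 * m) := by
  set U := (Finset.univ : Finset G).image fun g => g * x * g⁻¹ with hU
  have hG : Nat.card G = 9 * U.card := by
    rw [Nat.card_eq_fintype_card, ← Finset.card_univ, h.card_eq_nine_mul _ fun g _ s _ => Finset.mem_univ _]
  have hin : U.filter (· ∈ S) = el G S := by
    ext u
    simp only [hU, el, Finset.mem_filter, Finset.mem_image, Finset.mem_univ, true_and]
    constructor
    · rintro ⟨⟨g, rfl⟩, hs⟩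
      exact ⟨hs, fun e => h.ne (conj_eq_one_iff.1 e)⟩
    · rintro ⟨hs, hu1⟩
      exact ⟨isConj_iff.1 (hfus u (h.ti.cube u hs) hu1), hs⟩
  have h8 : (el G S).card = 8 := by
    have := card_el S
    rw [h.ti.card] at this
    omega
  constructor
  · -- the normalizer
    set Nf := Finset.univ.filter (· ∈ normalizer (S : Set G))
    have himg : Nf.image (fun g => g * x * g⁻¹) = el G S := by
      rw [← hin]
      ext u
      simp only [hU, Nf, Finset.mem_filter, Finset.mem_image, Finset.mem_univ, true_and]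
      constructor
      · rintro ⟨g, hg, rfl⟩
        exact ⟨⟨g, rfl⟩, (mem_normalizer_iff.1 hg x).1 h.mem⟩
      · rintro ⟨⟨g, rfl⟩, hs⟩
        exact ⟨g, h.ti.mem_normalizer h.mem h.ne hs, rfl⟩
    have hN := h.card_eq_nine_mul Nf fun g hg s hs => by
      simp only [Nf, Finset.mem_filter, Finset.mem_univ, true_and] at hg ⊢
      exact mul_mem hg (le_normalizer hs)
    rw [himg, h8, ← Fintype.card_subtype, ← Nat.card_eq_fintype_card] at hN
    have := card_subgroup_dvd_card (normalizer (S : Set G))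
    exact (show (72 : ℕ) = Nat.card (normalizer (S : Set G)) from hN.symm) ▸ this
  -- the other conjugates fall into free orbits
  let X := {u : G // u ∈ U ∧ u ∉ S}
  have hmem : ∀ (s : S) (u : G), u ∈ U → u ∉ S → (s : G) * u * (s : G)⁻¹ ∈ U ∧ (s : G) * u * (s : G)⁻¹ ∉ S := by
    intro s u hu hus
    refine ⟨?_, fun hc => hus ?_⟩
    · obtain ⟨g, -, rfl⟩ := Finset.mem_image.1 hu
      exact Finset.mem_image.2 ⟨s * g, Finset.mem_univ _, by group⟩
    · have := mul_mem (mul_mem (inv_mem s.2) hc) s.2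
      rwa [show (s : G)⁻¹ * ((s : G) * u * (s : G)⁻¹) * s = u by group] at this
  letI act : MulAction S X :=
    { smul := fun s u => ⟨s * u.1 * (s : G)⁻¹, hmem s u.1 u.2.1 u.2.2⟩
      one_smul := fun u => Subtype.ext (by show ((1 : S) : G) * u.1 * ((1 : S) : G)⁻¹ = u.1; simp)
      mul_smul := fun s t u => Subtype.ext (by
        show ((s * t : S) : G) * u.1 * ((s * t : S) : G)⁻¹ = (s : G) * ((t : G) * u.1 * (t : G)⁻¹) * (s : G)⁻¹
        push_cast
        group) }
  have hfree : ∀ u : X, MulAction.stabilizer S u = ⊥ := fun u => by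
    refine eq_bot_iff.2 fun s hs => mem_bot.2 ?_
    by_contra hs1
    have e : (s : G) * u.1 * (s : G)⁻¹ = u.1 := congrArg Subtype.val (MulAction.mem_stabilizer_iff.1 hs)
    refine u.2.2 ?_
    rw [mul_inv_eq_iff_eq_mul] at e
    have hh : u.1 ∈ centralizer ({(s : G)} : Set G) := mem_centralizer_singleton_iff.2 e.symm
    rwa [h.ti.cent s s.2 fun e' => hs1 (Subtype.ext e')] at hh
  have hX := Nat.card_congr (MulAction.selfEquivOrbitsQuotientProd hfree)
  rw [Nat.card_prod, h.ti.card] at hX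
  refine ⟨Nat.card (Quotient (MulAction.orbitRel S X)), ?_⟩
  rw [hG, ← Finset.card_filter_add_card_filter_not (s := U) (· ∈ S), hin, h8,
    show (U.filter fun u => ¬ u ∈ S).card = Nat.card X by
      rw [Nat.card_eq_fintype_card, Fintype.card_subtype]
      congr 1
      ext u; simp, hX]
  ring

omit hfus in
/-- Outside of `S` the two conditions give an invariant subgroup. -/
theorem Pt.exists_inv_of_cubes (h : Pt S x) {a : G} (ha : a ∉ S) (h1 : (a * x) ^ 3 = 1)
    (h2 : (a * x⁻¹) ^ 3 = 1) : ∃ K : Subgroup G, Inv x K ∧ a ∈ K := by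
  have hb := SelfCentThree.commute_of_cubes h.cube h1 h2
  set b := x * a * x⁻¹
  set c := x⁻¹ * a * x
  have h3 : x * x = x⁻¹ := (inv_eq_of_mul_eq_one_right (a := x) (by rw [← h.cube, pow_succ, sq]; group)).symm
  have hab : a * b * c = 1 := by
    calc a * (x * a * x⁻¹) * (x⁻¹ * a * x) = a * x * a * ((x * x)⁻¹) * a * x := by group
      _ = a * x * a * x * a * x := by rw [h3, inv_inv]
      _ = (a * x) ^ 3 := by rw [pow_succ, sq]; group
      _ = 1 := h1
  have ha' : a = (b * c)⁻¹ := eq_inv_of_mul_eq_one_left (by rw [← mul_assoc]; exact hab)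
  set K := closure ({b, c} : Set G)
  have hKc : ∀ g ∈ K, ∀ k ∈ K, g * k = k * g := by
    have : K ≤ centralizer (K : Set G) := by
      rw [centralizer_closure]
      refine (closure_le _).2 ?_
      rintro g (rfl | rfl) k (rfl | rfl) <;> first | rfl | exact hb.eq | exact hb.eq.symm
    exact fun g hg k hk => this hk g hg
  have hbK : b ∈ K := subset_closure (by simp)
  have hcK : c ∈ K := subset_closure (by simp)
  have haK : a ∈ K := ha' ▸ inv_mem (mul_mem hbK hcK)
  have hN : ∀ g ∈ K, x * g * x⁻¹ ∈ K := by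
    have : K ≤ K.comap (MulAut.conj x).toMonoidHom := by
      refine (closure_le _).2 ?_
      rintro g (rfl | rfl)
      · show x * (x * a * x⁻¹) * x⁻¹ ∈ K
        rw [show x * (x * a * x⁻¹) * x⁻¹ = (x * x) * a * (x * x)⁻¹ by group, h3, inv_inv]
        exact hcK
      · show x * (x⁻¹ * a * x) * x⁻¹ ∈ K
        rw [show x * (x⁻¹ * a * x) * x⁻¹ = a by group]
        exact haK
    exact fun g hg => this hg
  have hnorm : x ∈ normalizer (K : Set G) := by
    refine mem_normalizer_iff.2 fun g => ⟨hN g, fun hg => ?_⟩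
    have := hN _ (hN _ hg)
    rwa [show x * (x * (x * g * x⁻¹) * x⁻¹) * x⁻¹ = x ^ 3 * g * (x ^ 3)⁻¹ by rw [pow_succ, sq]; group,
      h.cube, one_mul, inv_one, mul_one] at this
  have hfix : ∀ g ∈ K, g * x = x * g → g = 1 := fun g hg hgx => by
    by_contra hne
    refine ha ?_
    rw [← h.ti.cent g (h.mem_of_commute hgx) hne, mem_centralizer_singleton_iff]
    exact hKc a haK g hg
  refine ⟨K, ⟨hnorm, fun hd => ?_⟩, haK⟩
  let σ : Equiv.Perm K :=
    { toFun := fun g => ⟨x * g * x⁻¹, conj_mem_of_norm hnorm g.2⟩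
      invFun := fun g => ⟨x⁻¹ * g * x, inv_conj_mem_of_norm hnorm g.2⟩
      left_inv := fun g => Subtype.ext (by simp [mul_assoc])
      right_inv := fun g => Subtype.ext (by simp [mul_assoc]) }
  have hm : Nat.card K % 3 = 1 := by
    refine card_mod_three σ ?_ 1 fun g => ?_
    · ext g
      show x * (x * (x * (g : G) * x⁻¹) * x⁻¹) * x⁻¹ = g
      calc x * (x * (x * (g : G) * x⁻¹) * x⁻¹) * x⁻¹ = x ^ 3 * g * (x ^ 3)⁻¹ := by
            rw [pow_succ, sq]; group
        _ = g := by rw [h.cube]; group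
    · refine ⟨fun e => Subtype.ext (hfix g g.2 ?_), fun e => by subst e; exact Subtype.ext (by simp [σ])⟩
      have e' : x * (g : G) * x⁻¹ = g := congrArg Subtype.val e
      rw [mul_inv_eq_iff_eq_mul] at e'
      exact e'.symm
  omega

omit hfus in
/-- The pairs counted by the structure constant. -/
theorem Pt.card_pairs_le (h : Pt S x) :
    (Finset.univ.filter fun g : G => IsConj (g * x * g⁻¹ * x) x).card ≤
      9 * (7 + Set.ncard {g : G | g ≠ 1 ∧ ∃ K, Inv x K ∧ g ∈ K}) := by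
  set T := Finset.univ.filter fun g : G => IsConj (g * x * g⁻¹ * x) x with hT
  rw [h.card_eq_nine_mul T fun g hg s hs => by
    simp only [hT, Finset.mem_filter, Finset.mem_univ, true_and] at hg ⊢
    rwa [show g * s * x * (g * s)⁻¹ = g * (s * x) * s⁻¹ * g⁻¹ by group, h.ti.comm s hs x h.mem,
      show g * (x * s) * s⁻¹ * g⁻¹ = g * x * g⁻¹ by group]]
  refine Nat.mul_le_mul_left 9 ?_
  set V := T.image fun g => g * x * g⁻¹ with hV
  have hVp : ∀ u ∈ V, u ^ 3 = 1 ∧ u ≠ 1 ∧ (u * x) ^ 3 = 1 ∧ u * x ≠ 1 := by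
    intro u hu
    obtain ⟨g, hg, rfl⟩ := Finset.mem_image.1 hu
    have hg' := (Finset.mem_filter.1 hg).2
    refine ⟨by rw [conj_pow, h.cube, mul_one, mul_inv_cancel], fun e => h.ne (conj_eq_one_iff.1 e), ?_,
      fun e => ?_⟩
    · obtain ⟨k, hk⟩ := isConj_iff.1 hg'.symm
      rw [← hk, conj_pow, h.cube, mul_one, mul_inv_cancel]
    · rw [e] at hg'
      exact h.ne (isConj_one_right.1 hg')
  rw [← Finset.card_filter_add_card_filter_not (s := V) (· ∈ S)]
  refine Nat.add_le_add ?_ ?_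
  · have hsub : V.filter (· ∈ S) ⊆ (el G S).erase x⁻¹ := by
      intro u hu
      obtain ⟨huV, huS⟩ := Finset.mem_filter.1 hu
      obtain ⟨-, hu1, -, hux⟩ := hVp u huV
      simp only [el, Finset.mem_erase, Finset.mem_filter, Finset.mem_univ, true_and]
      exact ⟨fun e => hux (by rw [e, inv_mul_cancel]), huS, hu1⟩
    refine (Finset.card_le_card hsub).trans ?_
    have := card_el S
    rw [h.ti.card] at this
    rw [Finset.card_erase_of_mem (by simp [el, h.mem, h.ne, inv_mem h.mem])]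
    omega
  · rw [← Set.ncard_coe_finset]
    refine Set.ncard_le_ncard_of_injOn (fun u => u * x⁻¹) (fun u hu => ?_)
      (fun u _ v _ e => mul_right_cancel e)
    simp only [Finset.coe_filter, Set.mem_setOf_eq] at hu
    obtain ⟨hu3, -, hux3, -⟩ := hVp u hu.1
    refine ⟨fun e => hu.2 ?_, h.exists_inv_of_cubes (fun hs => hu.2 ?_) ?_ ?_⟩
    · rw [mul_inv_eq_one.1 e]; exact h.mem
    · simpa using mul_mem hs h.mem
    · rwa [inv_mul_cancel_right]
    · rwa [show u * x⁻¹ * x⁻¹ = u * x by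
        rw [mul_assoc, ← mul_inv_rev, show x * x = x⁻¹ from
          (inv_eq_of_mul_eq_one_right (by rw [← h.cube, pow_succ, sq]; group)).symm, inv_inv]]

/-- The column of `x`: values and degrees. -/
theorem Pt.exists_column [IsSimpleGroup G] (h : Pt S x) (hna : ∃ u v : G, u * v ≠ v * u) :
    ∃ (c : IrrCharacter G → ℤ) (d : IrrCharacter G → ℕ),
      (∀ χ : IrrCharacter G, (χ : G → ℂ) x = c χ) ∧ (∀ χ : IrrCharacter G, (χ : G → ℂ) 1 = d χ) ∧
      c (Blocks.triv G) = 1 ∧ d (Blocks.triv G) = 1 ∧ ∑ χ, c χ ^ 2 = 9 ∧ ∑ χ, c χ * (d χ : ℤ) = 0 ∧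
      (∀ χ, (9 : ℤ) ∣ (d χ : ℤ) - c χ) ∧ ∑ χ, d χ ^ 2 = Nat.card G ∧
      (∀ χ, χ ≠ Blocks.triv G → 2 ≤ d χ ∧ (d χ : ℤ) ≠ c χ) ∧ (∀ χ, d χ ∣ Nat.card G) := by
  have hreal : ∀ y ∈ S, IsConj y y⁻¹ := fun y hy => by
    rcases eq_or_ne y 1 with rfl | hy1
    · rw [inv_one]
    · exact (hfus y (h.ti.cube y hy) hy1).symm.trans
        (hfus y⁻¹ (h.ti.cube _ (inv_mem hy)) (inv_ne_one.2 hy1))
  have hc : ∀ χ : IrrCharacter G, ∃ c : ℤ, (χ : G → ℂ) x = c := fun χ => h.ti.exists_int hreal χ h.mem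
  have hd : ∀ χ : IrrCharacter G, ∃ d : ℕ, 0 < d ∧ (χ : G → ℂ) 1 = d := fun χ =>
    Char.IsIrr.degree χ.2
  choose c hc using hc
  choose d hd0 hd using hd
  have htc : c (Blocks.triv G) = 1 := by
    have e : ((c (Blocks.triv G) : ℤ) : ℂ) = 1 := (hc _).symm
    exact_mod_cast e
  have htd : d (Blocks.triv G) = 1 := by
    have e : ((d (Blocks.triv G) : ℕ) : ℂ) = 1 := (hd _).symm
    exact_mod_cast e
  refine ⟨c, d, hc, hd, htc, htd, ?_, ?_, fun χ => ?_, ?_, fun χ hχ => ?_, fun χ => ?_⟩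
  · have := h.ti.col hreal h.mem h.mem h.ne c c hc hc
    rw [if_pos (IsConj.refl x)] at this
    simpa [sq] using this
  · exact h.ti.col_degree h.mem h.ne c (fun χ => (d χ : ℤ)) hc fun χ => by rw [hd]; norm_cast
  · obtain ⟨n, hn⟩ := Char.classInner_isCharacter_eq_natCast
      (Char.isCharacter_comp S.subtype (Char.IsIrr.isCharacter χ.2)) (Char.isCharacter_one (G := S))
    simp only [classInner, map_one, mul_one, h.ti.card] at hn
    rw [← Finset.add_sum_erase _ _ (Finset.mem_univ (1 : S)),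
      Finset.sum_congr rfl (g := fun _ => (c χ : ℂ)) fun s hs => by
        have hs1 : (s : G) ≠ 1 := fun e => Finset.ne_of_mem_erase hs (Subtype.ext e)
        rw [← hc χ]
        exact (Char.classFun_isConj (Char.isClassFunction_of_isIrr χ.2)
          (hfus s (h.ti.cube s s.2) hs1)).symm,
      Finset.sum_const, Finset.card_erase_of_mem (Finset.mem_univ _), Finset.card_univ,
      ← Nat.card_eq_fintype_card, h.ti.card] at hn
    simp only [map_one, nsmul_eq_mul, hd] at hn
    refine ⟨(n : ℤ) - c χ, ?_⟩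
    have hn' : ((d χ : ℤ) : ℂ) + 8 * (c χ : ℂ) = 9 * ((n : ℤ) : ℂ) := by
      push_cast at hn ⊢
      linear_combination 9 * hn
    have hn2 : (d χ : ℤ) + 8 * c χ = 9 * (n : ℤ) := by exact_mod_cast hn'
    linarith
  · have := ThreeTINine.sum_mul_conj (1 : G) 1
    rw [if_pos (IsConj.refl _)] at this
    simp only [hd, map_natCast] at this
    rw [show centralizer ({(1 : G)} : Set G) = ⊤ from eq_top_iff.2 fun g _ =>
      mem_centralizer_singleton_iff.2 (by simp), Subgroup.card_top] at this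
    simp only [sq]
    exact_mod_cast this
  · refine ⟨?_, fun e => h.ne (NineTwoPrimes.kernel_eq_one hna hχ ?_)⟩
    · have := hd0 χ
      by_contra hlt
      exact hχ (NineTwoPrimes.eq_triv_of_degree_one hna
        (Blocks.charDegree_eq (by rw [hd χ, show d χ = 1 by omega])))
    · rw [hc χ, hd χ, ← e]
      norm_cast
  · exact Char.IsIrr.degree_dvd_card χ.2 (hd χ)

omit hfus in
/-- The sum over the principal block. -/
theorem block_dvd {p n : ℕ} [Fact p.Prime] {M : Ideal Cfsg.AlgInt} (hM : Cfsg.IsPModular p M)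
    (hx3 : x ^ 3 = 1) (hp3 : p ≠ 3) (c : IrrCharacter G → ℤ) (d : IrrCharacter G → ℕ)
    (hc : ∀ χ : IrrCharacter G, (χ : G → ℂ) x = c χ) (hd : ∀ χ : IrrCharacter G, (χ : G → ℂ) 1 = d χ)
    (hn : ∀ P : Sylow p G, Nat.card P = n) :
    (n : ℤ) ∣ ∑ χ ∈ Finset.univ.filter (· ∈ Cfsg.principalBlock M G), c χ * (d χ : ℤ) := by
  set B := Finset.univ.filter (· ∈ Cfsg.principalBlock M G) with hB
  obtain ⟨P⟩ := (inferInstance : Nonempty (Sylow p G))
  have hp : ¬ p ∣ orderOf x := fun hd => by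
    have h3 : orderOf x ∣ 3 := orderOf_dvd_of_pow_eq_one hx3
    exact hp3 ((Nat.prime_dvd_prime_iff_eq Fact.out Nat.prime_three).1 (hd.trans h3))
  have hval : ∀ y : (P : Subgroup G), y ≠ 1 → ∑ χ ∈ B, (c χ : ℂ) * (χ : G → ℂ) y = 0 := fun y hy => by
    have h := Blocks.block_orthogonality hM (Blocks.isPBlock_principalBlock M) (y : G) x ?_
    · rw [finsum_mem_eq_finite_toFinset_sum _ (Set.toFinite _)] at h
      rw [← h]
      refine Finset.sum_congr (by ext χ; simp [hB]) fun χ _ => ?_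
      rw [hc χ, mul_comm]
    · rw [(Blocks.pPartOf_eq_one_iff (Fact.out : p.Prime) x).2 hp, inv_one]
      intro e
      have h1 := isConj_one_left.1 e
      rw [Blocks.pPartOf_eq_one_iff (Fact.out : p.Prime)] at h1
      obtain ⟨k, hk⟩ := P.2 y
      have hd2 : orderOf (y : G) ∣ p ^ k := orderOf_dvd_of_pow_eq_one (congrArg Subtype.val hk)
      obtain ⟨j, -, hj⟩ := (Nat.dvd_prime_pow Fact.out).1 hd2
      rcases Nat.eq_zero_or_pos j with rfl | hj0
      · exact hy (Subtype.ext (orderOf_eq_one_iff.1 (by simpa using hj)))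
      · exact h1 (hj ▸ dvd_pow_self p hj0.ne')
  have hn' : ∀ χ : IrrCharacter G, ∃ m : ℕ, ∑ y : (P : Subgroup G), (χ : G → ℂ) y = (n : ℂ) * m := fun χ => by
    obtain ⟨m, hm⟩ := Char.classInner_isCharacter_eq_natCast
      (Char.isCharacter_comp (P : Subgroup G).subtype (Char.IsIrr.isCharacter χ.2))
      (Char.isCharacter_one (G := (P : Subgroup G)))
    refine ⟨m, ?_⟩
    simp only [classInner, map_one, mul_one, Subgroup.coe_subtype] at hm
    rw [← hn P, ← hm, ← mul_assoc, mul_inv_cancel₀ (Nat.cast_ne_zero.2 Nat.card_pos.ne'), one_mul]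
  choose m hm using hn'
  refine ⟨∑ χ ∈ B, c χ * (m χ : ℤ), ?_⟩
  have key : ((∑ χ ∈ B, c χ * (d χ : ℤ) : ℤ) : ℂ) = (((n : ℤ) * ∑ χ ∈ B, c χ * (m χ : ℤ) : ℤ) : ℂ) := by
    push_cast
    rw [Finset.mul_sum, Finset.sum_congr rfl fun χ (_ : χ ∈ B) =>
      show (n : ℂ) * ((c χ : ℂ) * (m χ : ℂ)) = ∑ y : (P : Subgroup G), (c χ : ℂ) * (χ : G → ℂ) y by
        rw [← Finset.mul_sum, hm χ]; ring, Finset.sum_comm,
      ← Finset.add_sum_erase _ _ (Finset.mem_univ (1 : (P : Subgroup G))),
      Finset.sum_eq_zero fun y hy => hval y (Finset.ne_of_mem_erase hy), add_zero]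
    exact Finset.sum_congr rfl fun χ _ => by rw [OneMemClass.coe_one, hd χ]
  exact_mod_cast key

end Cfsg.Agent.NineEight
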