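import Mathlib

/-!
# The finite search for a self-centralizing Sylow subgroup of order nine with one class

A candidate is a pair `(c, d)` of a value at an element of order three and a degree.
-/

set_option autoImplicit false

namespace Cfsg.Agent.NineEight

/-- A candidate with bounds valid for itself and all later ones. -/
structure Item where
  val : ℤ
  deg : ℕ
  low : ℤ
  pos : ℤ
  neg : ℤ

/-- The parameters: the prime, the power of two, the order and the bound. -/
structure Par where
  q : ℕ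
  A : ℕ
  D : ℕ
  L : ℤ

def Item.key (it : Item) : ℤ × ℕ := (it.val, it.deg)

/-- The term of the structure constant. -/
def term (D : ℕ) (c : ℤ) (d : ℕ) : ℤ := c ^ 3 * ((D / d : ℕ) : ℤ)

def lowOf : List Item → ℤ
  | [] => 0
  | it :: _ => it.low

def posOf : List Item → ℤ
  | [] => 0
  | it :: _ => it.pos

def negOf : List Item → ℤ
  | [] => 0
  | it :: _ => it.neg

/-- Attach the bounds. -/
def pack (D : ℕ) : List (ℤ × ℕ) → List Item
  | [] => []
  | (c, d) :: l =>
    let r := pack D l
    ⟨c, d, max (lowOf r) (-c * ((D / d : ℕ) : ℤ)), max (posOf r) (if 0 < c then (d : ℤ) else 0),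
      max (negOf r) (if c < 0 then (d : ℤ) else 0)⟩ :: r

/-- Validity of the bounds. -/
def Good (D : ℕ) (l : List Item) : Prop :=
  0 ≤ lowOf l ∧ 0 ≤ posOf l ∧ 0 ≤ negOf l ∧ ∀ it ∈ l, -it.val * ((D / it.deg : ℕ) : ℤ) ≤ lowOf l ∧
    (0 < it.val → (it.deg : ℤ) ≤ posOf l) ∧ (it.val < 0 → (it.deg : ℤ) ≤ negOf l)

/-- All suffixes are valid. -/
def GoodAll (D : ℕ) : List Item → Prop
  | [] => True
  | it :: l => Good D (it :: l) ∧ GoodAll D l

theorem goodAll_pack (D : ℕ) : ∀ l, GoodAll D (pack D l) ∧ Good D (pack D l) := by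
  intro l
  induction l with
  | nil => exact ⟨trivial, le_refl _, le_refl _, le_refl _, by simp [pack]⟩
  | cons h t ih =>
    obtain ⟨c, d⟩ := h
    obtain ⟨hA, h1, h2, h3, h4⟩ := ih
    have hg : Good D (pack D ((c, d) :: t)) := by
      refine ⟨le_trans h1 (le_max_left _ _), le_trans h2 (le_max_left _ _),
        le_trans h3 (le_max_left _ _), fun it hit => ?_⟩
      simp only [pack, List.mem_cons] at hit
      rcases hit with rfl | hit
      · exact ⟨le_max_right _ _,
          fun hc => le_trans (by rw [if_pos hc]) (le_max_right (posOf (pack D t)) _),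
          fun hc => le_trans (by rw [if_pos hc]) (le_max_right (negOf (pack D t)) _)⟩
      · obtain ⟨e1, e2, e3⟩ := h4 it hit
        exact ⟨e1.trans (le_max_left _ _), fun hc => (e2 hc).trans (le_max_left _ _),
          fun hc => (e3 hc).trans (le_max_left _ _)⟩
    exact ⟨⟨hg, hA⟩, hg⟩

theorem keys_pack (D : ℕ) : ∀ l, (pack D l).map Item.key = l := by
  intro l
  induction l with
  | nil => rfl
  | cons h t ih => obtain ⟨c, d⟩ := h; simp [pack, Item.key, ih]

/-- The residues reachable with `k` more copies. -/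
def residues (A : ℕ) (x : ℤ) (k : ℕ) (R : List ℤ) : List ℤ :=
  (R.flatMap fun r => (List.range (k + 1)).map fun j : ℕ => (r + (j : ℤ) * x) % (A : ℤ)).eraseDups

/-- The search; `true` means that no choice survives. -/
def dfs (P : Par) : List Item → ℕ → ℤ → ℤ → ℕ → List ℤ → Bool
  | [], w, S, t, sq, R =>
    !(decide (w = 0) && decide (S = 0) && decide (t ≤ P.L) && decide (t % 81 = 0) &&
      decide (sq < P.D) && R.contains 0)
  | it :: l, w, S, t, sq, R =>
    decide (P.D ≤ sq) || decide (P.L < t - (w : ℤ) * it.low) ||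
      decide (S + (w : ℤ) * it.pos < 0) || decide (0 < S - (w : ℤ) * it.neg) ||
      (List.range (w / it.val.natAbs ^ 2 + 1)).all fun k =>
        dfs P l (w - k * it.val.natAbs ^ 2) (S + (k : ℤ) * (it.val * (it.deg : ℤ)))
          (t + (k : ℤ) * term P.D it.val it.deg) (sq + k * it.deg ^ 2)
          (if P.q ∣ it.deg then residues P.A (it.val * (it.deg : ℤ)) k R else R)

theorem mem_residues {A : ℕ} {x r : ℤ} {k j : ℕ} {R : List ℤ} (hr : r ∈ R) (hj : j ≤ k) :
    (r + (j : ℤ) * x) % (A : ℤ) ∈ residues A x k R := by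
  simp only [residues, List.mem_eraseDups, List.mem_flatMap, List.mem_map, List.mem_range]
  exact ⟨r, hr, j, by omega, rfl⟩

section Sound

variable {ι : Type*} (val : ι → ℤ) (deg : ι → ℕ) (inB : ι → Prop) (P : Par)

/-- A choice of candidates is found by the search. -/
theorem dfs_sound [DecidablePred inB] : ∀ (l : List Item) (s : Finset ι) (w : ℕ) (S t : ℤ)
    (sq : ℕ) (R : List ℤ) (r : ℤ), GoodAll P.D l →
    (∀ i ∈ s, (val i, deg i) ∈ l.map Item.key) → (∑ i ∈ s, (val i).natAbs ^ 2 = w) →
    S + ∑ i ∈ s, val i * (deg i : ℤ) = 0 → t + ∑ i ∈ s, term P.D (val i) (deg i) ≤ P.L →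
    (81 : ℤ) ∣ t + ∑ i ∈ s, term P.D (val i) (deg i) → sq + ∑ i ∈ s, deg i ^ 2 < P.D →
    r ∈ R → ((r % (P.A : ℤ)) = r) → (P.A : ℤ) ∣ r + ∑ i ∈ s.filter inB, val i * (deg i : ℤ) →
    (∀ i ∈ s, inB i → P.q ∣ deg i) → dfs P l w S t sq R = false := by
  classical
  intro l
  induction l with
  | nil =>
    intro s w S t sq R r _ hs hw hS ht h81 hsq hr hrm hA _
    have hs0 : s = ∅ := Finset.eq_empty_of_forall_notMem fun i hi => by simpa using hs i hi
    subst hs0
    simp only [Finset.sum_empty, add_zero, Finset.filter_empty] at hw hS ht h81 hsq hA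
    have hr0 : r = 0 := hrm.symm.trans (Int.emod_eq_zero_of_dvd hA)
    subst hr0
    simp only [dfs, hw.symm, hS, ht, hsq, Int.emod_eq_zero_of_dvd h81]
    simpa using hr
  | cons it l ih =>
    intro s w S t sq R r hgood hs hw hS ht h81 hsq hr hrm hA hB
    obtain ⟨⟨hl0, hp0, hn0, hb⟩, hgood'⟩ := hgood
    simp only [lowOf, posOf, negOf] at hl0 hp0 hn0 hb
    have hkey : ∀ i ∈ s, ∃ j ∈ it :: l, j.val = val i ∧ j.deg = deg i := fun i hi => by
      obtain ⟨j, hj, e⟩ := List.mem_map.1 (hs i hi)
      exact ⟨j, hj, congrArg Prod.fst e, congrArg Prod.snd e⟩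
    have hw' : ∑ i ∈ s, ((val i).natAbs : ℤ) ^ 2 = (w : ℤ) := by exact_mod_cast hw
    -- the bounds
    have b1 : -((w : ℤ) * it.low) ≤ ∑ i ∈ s, term P.D (val i) (deg i) := by
      rw [← hw', Finset.sum_mul, ← Finset.sum_neg_distrib]
      refine Finset.sum_le_sum fun i hi => ?_
      obtain ⟨j, hj, e1, e2⟩ := hkey i hi
      have h := (hb j hj).1
      rw [e1, e2] at h
      rw [term, Int.natAbs_sq]
      nlinarith [mul_le_mul_of_nonneg_left h (sq_nonneg (val i))]
    have b2 : ∀ i ∈ s, val i * (deg i : ℤ) ≤ ((val i).natAbs : ℤ) ^ 2 * it.pos ∧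
        -(((val i).natAbs : ℤ) ^ 2 * it.neg) ≤ val i * (deg i : ℤ) := fun i hi => by
      obtain ⟨j, hj, e1, e2⟩ := hkey i hi
      obtain ⟨-, h2, h3⟩ := hb j hj
      rw [e1, e2] at h2 h3
      rw [Int.natAbs_sq]
      have hd : (0 : ℤ) ≤ deg i := Int.natCast_nonneg _
      rcases lt_trichotomy (val i) 0 with hc | hc | hc
      · have h := h3 hc
        have hc2 : -val i ≤ val i ^ 2 := by nlinarith
        refine ⟨by nlinarith [mul_nonneg (sq_nonneg (val i)) hp0], ?_⟩
        nlinarith [mul_le_mul hc2 h hd (sq_nonneg (val i))]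
      · rw [hc]; simp
      · have h := h2 hc
        have hc2 : val i ≤ val i ^ 2 := by nlinarith
        refine ⟨?_, by nlinarith [mul_nonneg (sq_nonneg (val i)) hn0]⟩
        nlinarith [mul_le_mul hc2 h hd (sq_nonneg (val i))]
    have b3 := Finset.sum_le_sum fun i hi => (b2 i hi).1
    have b4 := Finset.sum_le_sum fun i hi => (b2 i hi).2
    rw [← Finset.sum_mul, hw'] at b3
    rw [Finset.sum_neg_distrib, ← Finset.sum_mul, hw'] at b4
    -- split off the head
    set s₁ := s.filter fun i => (val i, deg i) = it.key with hs₁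
    set s₂ := s.filter fun i => ¬ (val i, deg i) = it.key with hs₂
    set k := s₁.card with hk
    have hval : ∀ i ∈ s₁, val i = it.val ∧ deg i = it.deg := fun i hi => by
      have e := (Finset.mem_filter.1 hi).2
      exact ⟨congrArg Prod.fst e, congrArg Prod.snd e⟩
    have hsplit : ∀ {M : Type} [AddCommMonoid M] (f : ι → M),
        ∑ i ∈ s, f i = ∑ i ∈ s₁, f i + ∑ i ∈ s₂, f i := fun f =>
      (Finset.sum_filter_add_sum_filter_not s _ f).symm
    have hwk : k * it.val.natAbs ^ 2 + ∑ i ∈ s₂, (val i).natAbs ^ 2 = w := by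
      have e : ∑ i ∈ s₁, (val i).natAbs ^ 2 = k * it.val.natAbs ^ 2 := by
        rw [Finset.sum_congr rfl (g := fun _ => it.val.natAbs ^ 2) fun i hi => by
          rw [(hval i hi).1], Finset.sum_const, smul_eq_mul]
      rw [← hw, hsplit, e]
    have hkle : k ≤ w / it.val.natAbs ^ 2 ∨ it.val.natAbs ^ 2 = 0 := by
      rcases Nat.eq_zero_or_pos (it.val.natAbs ^ 2) with h | h
      · exact Or.inr h
      · exact Or.inl ((Nat.le_div_iff_mul_le h).2 (by omega))
    rw [dfs]
    simp only [Bool.or_eq_false_iff, decide_eq_false_iff_not, not_le, not_lt, List.all_eq_false,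
      List.mem_range, Bool.not_eq_true]
    refine ⟨⟨⟨⟨by omega, by linarith⟩, by linarith⟩, by linarith⟩, ?_⟩
    rcases hkle with hkle | hz
    swap
    · -- a head with value zero takes no weight and no degree
      have hv : it.val = 0 := by
        simpa using (pow_eq_zero_iff (n := 2) two_ne_zero).1 hz
      refine ⟨0, Nat.succ_pos _, ?_⟩
      simp only [hv, zero_mul, mul_zero, Nat.cast_zero, add_zero, Nat.zero_mul, Nat.sub_zero]
      have hsum : ∀ (f : ι → ℤ), (∀ i ∈ s₁, f i = 0) → ∑ i ∈ s₂, f i = ∑ i ∈ s, f i :=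
        fun f hf => by rw [hsplit f, Finset.sum_eq_zero hf, zero_add]
      have h0 : ∀ i ∈ s₁, val i = 0 := fun i hi => (hval i hi).1.trans hv
      have hres : ∀ y : ℤ, r ∈ (if P.q ∣ it.deg then residues P.A y 0 R else R) := fun y => by
        split_ifs
        · simpa [hrm] using mem_residues (A := P.A) (x := y) (j := 0) hr (le_refl 0)
        · exact hr
      refine ih s₂ w S t sq _ r hgood' (fun i hi => ?_) ?_ ?_ ?_ ?_ ?_ (hres 0) hrm ?_ ?_
      · obtain ⟨hi1, hi2⟩ := Finset.mem_filter.1 hi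
        exact (List.mem_cons.1 (hs i hi1)).resolve_left hi2
      · rw [hz, mul_zero, zero_add] at hwk; exact hwk
      · rw [hsum (fun i => val i * (deg i : ℤ)) fun i hi => by rw [h0 i hi, zero_mul]]; exact hS
      · rw [hsum _ fun i hi => by rw [h0 i hi]; simp [term]]; exact ht
      · rw [hsum _ fun i hi => by rw [h0 i hi]; simp [term]]; exact h81
      · exact lt_of_le_of_lt (by gcongr; exact Finset.filter_subset _ _) hsq
      · have e : ∑ i ∈ s₂.filter inB, val i * (deg i : ℤ) =
            ∑ i ∈ s.filter inB, val i * (deg i : ℤ) := by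
          have h := hsum (fun i => if inB i then val i * (deg i : ℤ) else 0)
            fun i hi => by rw [h0 i hi]; simp
          rw [← Finset.sum_filter, ← Finset.sum_filter] at h
          exact h
        rw [e]; exact hA
      · exact fun i hi => hB i (Finset.mem_filter.1 hi).1
    set x := it.val * (it.deg : ℤ) with hx
    set j := (s₁.filter inB).card with hj
    have hjk : j ≤ k := Finset.card_filter_le _ _
    have hdvd : ¬ P.q ∣ it.deg → j = 0 := fun hq => by
      rw [hj, Finset.card_eq_zero]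
      exact Finset.filter_eq_empty_iff.2 fun i hi hin => hq ((hval i hi).2 ▸
        hB i (Finset.mem_filter.1 hi).1 hin)
    have hAsplit : ∑ i ∈ s.filter inB, val i * (deg i : ℤ) =
        (j : ℤ) * x + ∑ i ∈ s₂.filter inB, val i * (deg i : ℤ) := by
      rw [Finset.sum_filter, hsplit, ← Finset.sum_filter, ← Finset.sum_filter,
        Finset.sum_congr rfl fun i hi => by
          rw [(hval i (Finset.mem_filter.1 hi).1).1, (hval i (Finset.mem_filter.1 hi).1).2],
        Finset.sum_const, nsmul_eq_mul]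
    refine ⟨k, Nat.lt_succ_of_le hkle, ih s₂ _ _ _ _ _ ((r + (j : ℤ) * x) % (P.A : ℤ)) hgood' (fun i hi => ?_)
      ?_ ?_ ?_ ?_ ?_ ?_ (Int.emod_emod_of_dvd _ (dvd_refl _)) ?_
      fun i hi => hB i (Finset.mem_filter.1 hi).1⟩
    · obtain ⟨hi1, hi2⟩ := Finset.mem_filter.1 hi
      exact (List.mem_cons.1 (hs i hi1)).resolve_left hi2
    · omega
    · rw [hsplit, Finset.sum_congr rfl fun i hi => by rw [(hval i hi).1, (hval i hi).2],
        Finset.sum_const, nsmul_eq_mul, ← add_assoc] at hS
      exact hS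
    · rw [hsplit, Finset.sum_congr rfl fun i hi => by rw [(hval i hi).1, (hval i hi).2],
        Finset.sum_const, nsmul_eq_mul, ← add_assoc] at ht
      exact ht
    · rw [hsplit, Finset.sum_congr rfl fun i hi => by rw [(hval i hi).1, (hval i hi).2],
        Finset.sum_const, nsmul_eq_mul, ← add_assoc] at h81
      exact h81
    · rw [hsplit, Finset.sum_congr rfl fun i hi => by rw [(hval i hi).2],
        Finset.sum_const, smul_eq_mul, ← add_assoc] at hsq
      exact hsq
    · split_ifs with hq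
      · exact mem_residues hr hjk
      · rw [hdvd hq]; simpa [hrm] using hr
    · rw [hAsplit] at hA
      rw [Int.emod_def]
      have h := dvd_sub hA (dvd_mul_right (P.A : ℤ) ((r + (j : ℤ) * x) / (P.A : ℤ)))
      rw [show r + (j : ℤ) * x - (P.A : ℤ) * ((r + (j : ℤ) * x) / (P.A : ℤ)) +
          ∑ i ∈ s₂.filter inB, val i * (deg i : ℤ) = r + ((j : ℤ) * x +
          ∑ i ∈ s₂.filter inB, val i * (deg i : ℤ)) -
          (P.A : ℤ) * ((r + (j : ℤ) * x) / (P.A : ℤ)) by ring]
      exact h

end Sound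

/-- The possible degrees. -/
def divisors (q a b : ℕ) : List ℕ :=
  (List.range (a + 1)).flatMap fun i => (List.range (b + 1)).map fun j => 2 ^ i * q ^ j

/-- The candidates. -/
def cands (q a b : ℕ) : List (ℤ × ℕ) :=
  (divisors q a b).flatMap fun d =>
    if 2 ≤ d ∧ d * d < 9 * (2 ^ a * q ^ b) then
      ([1, -1, 2, -2] : List ℤ).filterMap fun c =>
        if ((d : ℤ) - c) % 9 = 0 then some (c, d) else none
    else []

/-- The possibility of a normalized Sylow `q`-subgroup. -/
def qt (q a b : ℕ) : Bool :=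
  decide (q ^ b % 3 = 1) && (List.range 4).any fun i => decide (3 * 2 ^ (a - i) % q = 1)

/-- The bound on the structure constant. -/
def bnd (q a b : ℕ) : ℕ :=
  61 + 6 * (if a % 2 = 0 then 2 ^ a else 2 ^ (a - 1)) + if qt q a b then 24 * (q ^ b - 1) else 0

/-- Insertion by decreasing degree. -/
def insertDesc (x : ℤ × ℕ) : List (ℤ × ℕ) → List (ℤ × ℕ)
  | [] => [x]
  | y :: l => if y.2 ≤ x.2 then x :: y :: l else y :: insertDesc x l

/-- Large degrees first. -/
def sortDesc : List (ℤ × ℕ) → List (ℤ × ℕ)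
  | [] => []
  | x :: l => insertDesc x (sortDesc l)

theorem mem_insertDesc {x z : ℤ × ℕ} : ∀ l, z ∈ insertDesc x l ↔ z = x ∨ z ∈ l := by
  intro l
  induction l with
  | nil => simp [insertDesc]
  | cons y l ih =>
    simp only [insertDesc]
    split_ifs
    · simp
    · simp only [List.mem_cons, ih]; tauto

theorem mem_sortDesc {z : ℤ × ℕ} : ∀ l, z ∈ sortDesc l ↔ z ∈ l := by
  intro l
  induction l with
  | nil => simp [sortDesc]
  | cons x l ih => simp [sortDesc, mem_insertDesc, ih]

/-- The search for given parameters. -/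
def check (q a b : ℕ) : Bool :=
  decide (20 * 2 ^ a < q ^ b) || decide (20 * q ^ b < 2 ^ a) ||
    !decide (2 ^ (a - 3) * q ^ b % 9 = 1) || decide (72 * bnd q a b < 2 ^ a * q ^ b) ||
    !((List.range 56).all fun d => decide (d < 2) || decide (q < d * d) || !decide (q % d = 0)) ||
    dfs ⟨q, 2 ^ a, 9 * (2 ^ a * q ^ b), 81 * (bnd q a b : ℤ)⟩
      (pack (9 * (2 ^ a * q ^ b)) (sortDesc (cands q a b))) 8 1 (9 * (2 ^ a * q ^ b) : ℕ) 0 [1]

end Cfsg.Agent.NineEight
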