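import Cfsg.Agent.NineEight.Check

/-!
# The search has no result
-/

set_option autoImplicit false

namespace Cfsg.Agent.NineEight

/-- The search for one exponent of two. -/
def checkRow (a : ℕ) : Bool :=
  (List.range' 5 3067).all fun q => decide (q % 2 = 0) || decide (q % 3 = 0) ||
    (check q a 1 && (decide (145 < q) || (List.range' 2 5).all fun b => check q a b))

theorem checkRow_3 : checkRow 3 = true := by decide +kernel

theorem checkRow_4 : checkRow 4 = true := by decide +kernel

theorem checkRow_5 : checkRow 5 = true := by decide +kernel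

theorem checkRow_6 : checkRow 6 = true := by decide +kernel

theorem checkRow_7 : checkRow 7 = true := by decide +kernel

theorem checkRow_8 : checkRow 8 = true := by decide +kernel

theorem checkRow_9 : checkRow 9 = true := by decide +kernel

theorem checkRow_10 : checkRow 10 = true := by decide +kernel

theorem checkRow_11 : checkRow 11 = true := by decide +kernel

theorem checkRow_12 : checkRow 12 = true := by decide +kernel

theorem checkRow_13 : checkRow 13 = true := by decide +kernel

theorem check_eq {q a b : ℕ} (hq5 : 5 ≤ q) (hq : q ≤ 3071) (h2 : ¬ 2 ∣ q) (h3 : ¬ 3 ∣ q)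
    (ha : 3 ≤ a) (ha' : a ≤ 13) (hb : 1 ≤ b) (hb' : b ≤ 6) (hbq : b = 1 ∨ q ≤ 145) :
    check q a b = true := by
  have h : checkRow a = true := by
    interval_cases a
    exacts [checkRow_3, checkRow_4, checkRow_5, checkRow_6, checkRow_7, checkRow_8, checkRow_9,
      checkRow_10, checkRow_11, checkRow_12, checkRow_13]
  simp only [checkRow, List.all_eq_true, List.mem_range'_1, Bool.or_eq_true, Bool.and_eq_true,
    decide_eq_true_eq] at h
  rcases h q ⟨hq5, by omega⟩ with (h' | h') | h'
  · exact absurd (Nat.dvd_of_mod_eq_zero h') h2
  · exact absurd (Nat.dvd_of_mod_eq_zero h') h3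
  · rcases Nat.lt_or_ge 1 b with hb1 | hb1
    · rcases h'.2 with h2' | h2'
      · omega
      · exact h2' b ⟨hb1, by omega⟩
    · obtain rfl : b = 1 := by omega
      exact h'.1

end Cfsg.Agent.NineEight
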