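import Cfsg.Agent.NineEight.Chars
import Cfsg.Agent.NineEight.Table

/-!
# No simple group of this order has a single class of elements of order three
-/

set_option autoImplicit false

namespace Cfsg.Agent.NineEight

open Cfsg Cfsg.Agent
open scoped _root_.Classical

universe u

theorem not_dvd_pow_two_mul {d a b q : ℕ} (hd : d ∣ 2 ^ a * q ^ b) (hq : q.Prime) {r : ℕ}
    (hr : r.Prime) (hrd : r ∣ d) : r = 2 ∨ r = q := by
  rcases hr.dvd_mul.1 (hrd.trans hd) with h | h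
  · exact Or.inl ((Nat.prime_dvd_prime_iff_eq hr Nat.prime_two).1 (hr.dvd_of_dvd_pow h))
  · exact Or.inr ((Nat.prime_dvd_prime_iff_eq hr hq).1 (hr.dvd_of_dvd_pow h))

theorem dvd_of_ne_pow {d a b p r : ℕ} (hd : d ∣ p ^ a * r ^ b) (hp : p.Prime) (hr : r.Prime)
    (h : ∀ i, d ≠ p ^ i) : r ∣ d := by
  obtain ⟨u, v, hu, hv, rfl⟩ := exists_dvd_and_dvd_of_dvd_mul hd
  obtain ⟨i, -, rfl⟩ := (Nat.dvd_prime_pow hp).1 hu
  obtain ⟨j, -, rfl⟩ := (Nat.dvd_prime_pow hr).1 hv
  rcases Nat.eq_zero_or_pos j with rfl | hj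
  · exact absurd (by simp) (h i)
  · exact dvd_mul_of_dvd_right (dvd_pow_self r hj.ne') _

/-- Weighted Cauchy–Schwarz for a sum over a part of the column. -/
theorem part_bound {ι : Type*} [Fintype ι] (B : Finset ι) (c d : ι → ℤ) (hw : ∑ i, c i ^ 2 = 9)
    (h0 : ∑ i, c i * d i = 0) {n : ℤ} (hd : ∑ i, d i ^ 2 = 9 * n) :
    (∑ i ∈ B, c i * d i) ^ 2 ≤ 20 * n := by
  set k := ∑ i ∈ B, c i ^ 2 with hk
  set w : ι → ℤ := fun i => 9 * (if i ∈ B then c i else 0) - k * c i with hwdef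
  have hS : ∑ i, w i * d i = 9 * ∑ i ∈ B, c i * d i := by
    have e : ∀ i, w i * d i = 9 * (if i ∈ B then c i * d i else 0) - k * (c i * d i) := fun i => by
      simp only [hwdef]; split_ifs <;> ring
    simp only [e, Finset.sum_sub_distrib, ← Finset.mul_sum, h0, mul_zero, sub_zero, Finset.sum_ite_mem,
      Finset.univ_inter]
  have hN : ∑ i, w i ^ 2 = 81 * k - 9 * k ^ 2 := by
    have e : ∀ i, w i ^ 2 = (81 - 18 * k) * (if i ∈ B then c i ^ 2 else 0) + k ^ 2 * c i ^ 2 := fun i => by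
      simp only [hwdef]; split_ifs <;> ring
    simp only [e, Finset.sum_add_distrib, ← Finset.mul_sum, hw, Finset.sum_ite_mem, Finset.univ_inter,
      ← hk]
    ring
  have hCS := Finset.sum_mul_sq_le_sq_mul_sq Finset.univ w d
  rw [hS, hN, hd] at hCS
  have hk20 : 81 * k - 9 * k ^ 2 ≤ 180 := by
    have : k ≤ 4 ∨ 5 ≤ k := by omega
    rcases this with h | h <;> nlinarith
  have hn : 0 ≤ n := by
    have := Finset.sum_nonneg (s := Finset.univ) fun i _ => sq_nonneg (d i)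
    omega
  nlinarith [mul_le_mul_of_nonneg_right hk20 hn]

theorem value_cases {c : ℤ} (h : c ^ 2 ≤ 8) (h0 : c ≠ 0) : c = 1 ∨ c = -1 ∨ c = 2 ∨ c = -2 := by
  have h1 : c ≤ 2 := by nlinarith
  have h2 : -2 ≤ c := by nlinarith
  omega

/-- The range of the parameters. -/
theorem range_bound {q a b : ℕ} (hq5 : 5 ≤ q) (hb : 1 ≤ b) (hA : 2 ^ a ≤ 20 * q ^ b)
    (hQ : q ^ b ≤ 20 * 2 ^ a) (hAQ : 2 ^ a * q ^ b ≤ 72 * bnd q a b) :
    q ≤ 3071 ∧ a ≤ 13 ∧ b ≤ 6 ∧ (b = 1 ∨ q ≤ 145) := by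
  have hqQ : q ≤ q ^ b := Nat.le_self_pow (by omega) q
  have hb6 : q ^ b < 78125 → b ≤ 6 := fun h => by
    by_contra hc
    have h1 : 5 ^ 7 ≤ q ^ b := (Nat.pow_le_pow_left hq5 7).trans (Nat.pow_le_pow_right (by omega) (by omega))
    norm_num at h1
    omega
  have hA2 : (if a % 2 = 0 then 2 ^ a else 2 ^ (a - 1)) ≤ 2 ^ a := by
    split_ifs
    · exact le_rfl
    · exact Nat.pow_le_pow_right (by norm_num) (by omega)
  have hbnd : bnd q a b ≤ 61 + 6 * 2 ^ a + if qt q a b then 24 * q ^ b else 0 := by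
    unfold bnd
    split_ifs at hA2 ⊢ <;> omega
  have ha13 : 2 ^ a < 16384 → a ≤ 13 := fun h => by
    by_contra hc
    have : 2 ^ 14 ≤ 2 ^ a := Nat.pow_le_pow_right (by norm_num) (by omega)
    norm_num at this
    omega
  have hq145 : q ^ b ≤ 20480 → b = 1 ∨ q ≤ 145 := fun h => by
    by_contra hc
    push Not at hc
    have h1 : q * q ≤ q ^ b := by
      rw [← sq]; exact Nat.pow_le_pow_right (by omega) (by omega)
    have := Nat.mul_le_mul hc.2 hc.2
    omega
  generalize hQe : q ^ b = Q at hA hQ hAQ hqQ hb6 hbnd hq145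
  by_cases hqt : qt q a b = true
  · rw [if_pos hqt] at hbnd
    have key : 2 ^ a * Q ≤ 4392 + 432 * 2 ^ a + 1728 * Q := by omega
    by_cases ha : a ≤ 10
    · have hA10 : 2 ^ a ≤ 1024 := Nat.pow_le_pow_right (by norm_num) ha
      refine ⟨?_, by omega, hb6 (by omega), hq145 (by omega)⟩
      simp only [qt, Bool.and_eq_true, decide_eq_true_eq, List.any_eq_true, List.mem_range] at hqt
      obtain ⟨-, i, -, hi⟩ := hqt
      have hp : 0 < 2 ^ (a - i) := by positivity
      have hle : 2 ^ (a - i) ≤ 1024 := (Nat.pow_le_pow_right (by norm_num) (Nat.sub_le a i)).trans hA10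
      by_contra hc
      rcases eq_or_lt_of_le (show 3 * 2 ^ (a - i) ≤ q by omega) with e | e
      · rw [e, Nat.mod_self] at hi; omega
      · rw [Nat.mod_eq_of_lt e] at hi; omega
    · have hA11 : 2048 ≤ 2 ^ a :=
        (show 2048 = 2 ^ 11 by norm_num) ▸ Nat.pow_le_pow_right (by norm_num) (by omega)
      generalize 2 ^ a = A at hA hQ key hA11 ha13
      have hQ3 : Q ≤ 3000 := by
        by_contra hc
        nlinarith [Nat.mul_le_mul (show 2048 ≤ A from hA11) (show 3001 ≤ Q by omega)]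
      refine ⟨by omega, ha13 ?_, hb6 (by omega), hq145 (by omega)⟩
      by_contra hc
      nlinarith
  · rw [if_neg hqt] at hbnd
    have key : 2 ^ a * Q ≤ 4392 + 432 * 2 ^ a := by omega
    generalize hAe : 2 ^ a = A at hA hQ key ha13
    have hAlt : A < 16384 := by
      by_contra hc
      nlinarith
    have hQ4 : Q ≤ 3000 := by
      by_contra hc
      nlinarith
    exact ⟨by omega, ha13 hAlt, hb6 (by omega), hq145 (by omega)⟩

/-- The sum of cubes over degrees is at least one eighth. -/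
theorem low_bound {ι : Type*} (s : Finset ι) (c : ι → ℤ) (d : ι → ℕ) {q a b : ℕ} {D : ℕ} (hq : q.Prime)
    (hw8 : ∑ χ ∈ s, c χ ^ 2 = 8) (hS1 : 1 + ∑ χ ∈ s, c χ * (d χ : ℤ) = 0) (hdvdD : ∀ χ, d χ ∣ D)
    (hsv : ∀ χ ∈ s, (c χ = 1 ∨ c χ = -1 ∨ c χ = 2 ∨ c χ = -2) ∧ 2 ≤ d χ ∧ (d χ : ℤ) ≠ c χ ∧
      (9 : ℤ) ∣ (d χ : ℤ) - c χ ∧ d χ ∣ 2 ^ a * q ^ b)
    (hpos0 : (0 : ℤ) < (D : ℤ) + ∑ χ ∈ s, term D (c χ) (d χ)) :
    (D : ℤ) ≤ 8 * ((D : ℤ) + ∑ χ ∈ s, term D (c χ) (d χ)) := by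
  have hdD : ∀ χ, (d χ : ℤ) * ((D / d χ : ℕ) : ℤ) = (D : ℤ) := fun χ => by
    exact_mod_cast Nat.mul_div_cancel' (hdvdD χ)
  by_cases h7 : ∃ χ ∈ s, c χ = -2 ∧ d χ = 7
  · obtain ⟨χ0, hχ0, hc0, hd0⟩ := h7
    exfalso
    have hq7 : q = 7 := by
      rcases not_dvd_pow_two_mul (hsv χ0 hχ0).2.2.2.2 hq (by norm_num : Nat.Prime 7)
        (hd0 ▸ dvd_rfl) with e | e
      · omega
      · exact e.symm
    have hbig : ∀ χ ∈ s, 28 * term D (c χ) (d χ) ≤ c χ ^ 2 * D := by
      intro χ hχ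
      obtain ⟨hv, hd2, hdc, hcd, hdAQ⟩ := hsv χ hχ
      have hno : ∀ r : ℕ, r.Prime → r ≠ 2 → r ≠ 7 → ¬ r ∣ d χ := fun r hr h2 h7' hrd => by
        rcases not_dvd_pow_two_mul hdAQ hq hr hrd with e | e
        · exact h2 e
        · exact h7' (e.trans hq7)
      have n5 := hno 5 (by norm_num) (by norm_num) (by norm_num)
      have n11 := hno 11 (by norm_num) (by norm_num) (by norm_num)
      have n19 := hno 19 (by norm_num) (by norm_num) (by norm_num)
      have n29 := hno 29 (by norm_num) (by norm_num) (by norm_num)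
      have n47 := hno 47 (by norm_num) (by norm_num) (by norm_num)
      have hk := hdD χ
      set k : ℤ := ((D / d χ : ℕ) : ℤ)
      have hk0 : (0 : ℤ) ≤ k := Int.natCast_nonneg _
      simp only [term]
      rcases hv with e | e | e | e <;> rw [e] at hdc hcd ⊢
      · have : (28 : ℤ) ≤ d χ := by
          generalize d χ = e' at hdc hcd n5 n19 ⊢
          by_contra hlt
          have : e' < 28 := by omega
          interval_cases e' <;> omega
        nlinarith
      · nlinarith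
      · have : (56 : ℤ) ≤ d χ := by
          generalize d χ = e' at hdc hcd n5 n11 n19 n29 n47 ⊢
          by_contra hlt
          have : e' < 56 := by omega
          interval_cases e' <;> omega
        nlinarith
      · nlinarith
    have hrest := Finset.sum_le_sum (s := s.erase χ0) fun χ hχ => hbig χ (Finset.mem_of_mem_erase hχ)
    rw [← Finset.mul_sum, ← Finset.sum_mul] at hrest
    have hw4 : ∑ χ ∈ s.erase χ0, c χ ^ 2 = 4 := by
      rw [← Finset.add_sum_erase s _ hχ0, hc0] at hw8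
      linarith
    rw [hw4] at hrest
    have hk := hdD χ0
    rw [hd0] at hk
    rw [← Finset.add_sum_erase s _ hχ0, show term D (c χ0) (d χ0) = -8 * ((D / d χ0 : ℕ) : ℤ) by
      rw [term, hc0]; norm_num, hd0] at hpos0
    omega
  · push Not at h7
    have hneg : ∀ χ ∈ s, -(c χ ^ 2 * (D : ℤ)) ≤ 8 * term D (c χ) (d χ) ∧
        (0 < c χ → 0 ≤ term D (c χ) (d χ)) := by
      intro χ hχ
      obtain ⟨hv, hd2, hdc, hcd, -⟩ := hsv χ hχ
      have hk := hdD χ
      set k : ℤ := ((D / d χ : ℕ) : ℤ)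
      have hk0 : (0 : ℤ) ≤ k := Int.natCast_nonneg _
      have h7' := h7 χ hχ
      simp only [term]
      rcases hv with e | e | e | e <;> rw [e] at hdc hcd h7' ⊢
      · exact ⟨by nlinarith, fun _ => by nlinarith⟩
      · have : (8 : ℤ) ≤ d χ := by omega
        exact ⟨by nlinarith, fun h => absurd h (by norm_num)⟩
      · exact ⟨by nlinarith, fun _ => by nlinarith⟩
      · have : (16 : ℤ) ≤ d χ := by
          have := h7' rfl
          omega
        exact ⟨by nlinarith, fun h => absurd h (by norm_num)⟩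
    obtain ⟨χ1, hχ1, hpos⟩ : ∃ χ ∈ s, 0 < c χ := by
      by_contra hno
      push Not at hno
      obtain ⟨χ, hχ⟩ : s.Nonempty := Finset.nonempty_of_ne_empty fun e => by simp [e] at hw8
      have h2 : ∀ ξ ∈ s, c ξ * (d ξ : ℤ) ≤ 0 := fun ξ hξ =>
        mul_nonpos_of_nonpos_of_nonneg (hno ξ hξ) (Int.natCast_nonneg _)
      have h3 := Finset.sum_le_sum_of_subset_of_nonneg (s := ({χ} : Finset _)) (t := s)
        (f := fun ξ => -(c ξ * (d ξ : ℤ))) (by simpa using hχ) fun ξ hξ _ => by linarith [h2 ξ hξ]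
      rw [Finset.sum_singleton, Finset.sum_neg_distrib] at h3
      have := hno χ hχ
      have h4 : c χ ≠ 0 := by rcases (hsv χ hχ).1 with e | e | e | e <;> rw [e] <;> norm_num
      have : (2 : ℤ) ≤ d χ := by exact_mod_cast (hsv χ hχ).2.1
      have h5 : c χ ≤ -1 := by omega
      nlinarith
    have hrest := Finset.sum_le_sum (s := s.erase χ1) fun χ hχ => (hneg χ (Finset.mem_of_mem_erase hχ)).1
    rw [Finset.sum_neg_distrib, ← Finset.sum_mul, ← Finset.mul_sum] at hrest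
    have hc1 : 1 ≤ c χ1 ^ 2 := by nlinarith
    rw [← Finset.add_sum_erase s _ hχ1] at hw8 ⊢
    have := (hneg χ1 hχ1).2 hpos
    have hD0 : (0 : ℤ) ≤ D := Int.natCast_nonneg _
    nlinarith

variable {G : Type u} [Group G] [Fintype G] [IsSimpleGroup G] {S : Subgroup G} {x : G}

set_option maxHeartbeats 1000000 in
theorem false_of_one_class (h : Pt S x) (hfus : ∀ g : G, g ^ 3 = 1 → g ≠ 1 → IsConj x g)
    (hna : ∃ u v : G, u * v ≠ v * u) {q a b : ℕ} (hq : q.Prime) (hq5 : 5 ≤ q) (hb : 1 ≤ b)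
    (hcard : Nat.card G = 9 * 2 ^ a * q ^ b) : False := by
  have : Fact q.Prime := ⟨hq⟩
  have : Fact (Nat.Prime 2) := ⟨Nat.prime_two⟩
  have hnc : ¬ IsMulCommutative G := fun hc => by
    obtain ⟨u, v, huv⟩ := hna
    exact huv (hc.is_comm.comm u v)
  -- congruences of the order
  obtain ⟨h72, m, hm⟩ := h.card_class hfus
  have ha : 3 ≤ a := by
    have h8 : 8 ∣ 2 ^ a * (9 * q ^ b) :=
      ((show (8 : ℕ) ∣ 72 by norm_num).trans h72).trans (dvd_of_eq (by rw [hcard]; ring))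
    have hcop : (2 ^ 3).Coprime (9 * q ^ b) :=
      Nat.Coprime.pow_left 3 (Nat.Coprime.mul_right (by norm_num)
        (((Nat.coprime_primes Nat.prime_two hq).2 (by omega)).pow_right b))
    have h8' : 2 ^ 3 ∣ 2 ^ a := hcop.dvd_of_dvd_mul_right h8
    exact (Nat.pow_dvd_pow_iff_le_right (by norm_num)).1 h8'
  have hcongr : 2 ^ (a - 3) * q ^ b % 9 = 1 := by
    have e : 8 * (2 ^ (a - 3) * q ^ b) = 8 + 9 * m := by
      have : 2 ^ a = 8 * 2 ^ (a - 3) := by
        rw [show (8 : ℕ) = 2 ^ 3 by norm_num, ← pow_add]; congr 1; omega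
      rw [hcard, this] at hm
      linarith
    omega
  obtain ⟨c, d, hc, hd, htc, htd, hsq, horth, hcg, hdeg, hne, hdvd⟩ := h.exists_column hfus hna
  set o := Blocks.triv G
  set A := 2 ^ a with hA
  set Q := q ^ b with hQ
  set D := 9 * (A * Q) with hD
  have hDG : Nat.card G = D := by rw [hcard, hD, hA, hQ]; ring
  set s := Finset.univ.filter fun χ => c χ ≠ 0 ∧ χ ≠ o with hs
  have hsum : ∀ f : IrrCharacter G → ℤ, (∀ χ, c χ = 0 → f χ = 0) →
      ∑ χ, f χ = f o + ∑ χ ∈ s, f χ := fun f hf => by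
    rw [← Finset.add_sum_erase _ _ (Finset.mem_univ o)]
    congr 1
    refine (Finset.sum_subset (fun χ hχ => ?_) fun χ hχ hn => ?_).symm
    · exact Finset.mem_erase.2 ⟨(Finset.mem_filter.1 hχ).2.2, Finset.mem_univ _⟩
    · refine hf χ ?_
      by_contra h0
      exact hn (Finset.mem_filter.2 ⟨Finset.mem_univ _, h0, Finset.ne_of_mem_erase hχ⟩)
  have hw8 : ∑ χ ∈ s, c χ ^ 2 = 8 := by
    have := hsum (fun χ => c χ ^ 2) fun χ e => by rw [e]; ring
    rw [hsq, htc] at this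
    linarith
  have hS1 : 1 + ∑ χ ∈ s, c χ * (d χ : ℤ) = 0 := by
    have := hsum (fun χ => c χ * (d χ : ℤ)) fun χ e => by rw [e]; ring
    rw [horth, htc, htd] at this
    push_cast at this
    linarith
  have hsv : ∀ χ ∈ s, (c χ = 1 ∨ c χ = -1 ∨ c χ = 2 ∨ c χ = -2) ∧ 2 ≤ d χ ∧ (d χ : ℤ) ≠ c χ ∧
      (9 : ℤ) ∣ (d χ : ℤ) - c χ ∧ d χ ∣ A * Q := by
    intro χ hχ
    obtain ⟨-, h0, ho⟩ := Finset.mem_filter.1 hχ
    have h8 := Finset.single_le_sum (f := fun ξ => c ξ ^ 2) (fun ξ _ => sq_nonneg (c ξ)) hχ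
    rw [hw8] at h8
    have hv := value_cases h8 h0
    refine ⟨hv, (hne χ ho).1, (hne χ ho).2, hcg χ, ?_⟩
    refine NineTwoPrimes.dvd_two_q_of_not_three_dvd (hcard ▸ hdvd χ) fun h3 => ?_
    have h3' : (3 : ℤ) ∣ (d χ : ℤ) := by exact_mod_cast h3
    have := dvd_sub h3' ((show (3 : ℤ) ∣ 9 by norm_num).trans (hcg χ))
    rcases hv with e | e | e | e <;> rw [e] at this <;> norm_num at this
  -- the sums over the principal blocks
  have hblock : ∀ (p r : ℕ), p.Prime → r.Prime → p ≠ 3 → (∀ χ ∈ s, d χ ∣ p ^ (Nat.card G).factorization p * r ^ (Nat.card G).factorization r) →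
      ∃ (M : Ideal Cfsg.AlgInt), (∀ χ ∈ s, χ ∈ Cfsg.principalBlock M G → r ∣ d χ) ∧
        ((p ^ (Nat.card G).factorization p : ℕ) : ℤ) ∣
          1 + ∑ χ ∈ s.filter (· ∈ Cfsg.principalBlock M G), c χ * (d χ : ℤ) ∧
        (1 + ∑ χ ∈ s.filter (· ∈ Cfsg.principalBlock M G), c χ * (d χ : ℤ)) ^ 2 ≤ 20 * ((A * Q : ℕ) : ℤ) ∧
        1 + ∑ χ ∈ s.filter (· ∈ Cfsg.principalBlock M G), c χ * (d χ : ℤ) ≠ 0 := by
    intro p r hp hr hp3 hdd
    have : Fact p.Prime := ⟨hp⟩
    obtain ⟨M, hM⟩ := Blocks.exists_isPModular p hp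
    have hin : ∀ χ ∈ s, χ ∈ Cfsg.principalBlock M G → r ∣ d χ := fun χ hχ hB => by
      refine dvd_of_ne_pow (hdd χ hχ) hp hr fun i e => ?_
      refine (Finset.mem_filter.1 hχ).2.2 (Subtype.ext ?_)
      exact S0910.result p M hM hna χ hB i (by rw [hd χ, e]; push_cast; rfl)
    have hsplit : ∑ χ ∈ Finset.univ.filter (· ∈ Cfsg.principalBlock M G), c χ * (d χ : ℤ) =
        1 + ∑ χ ∈ s.filter (· ∈ Cfsg.principalBlock M G), c χ * (d χ : ℤ) := by
      rw [Finset.sum_filter, hsum (fun χ => if χ ∈ Cfsg.principalBlock M G then c χ * (d χ : ℤ) else 0)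
        (fun χ e => by simp [e]), ← Finset.sum_filter, if_pos (Blocks.triv_mem_principalBlock hM), htc, htd]
      norm_num
    refine ⟨M, hin, ?_, ?_, fun e => ?_⟩
    · rw [← hsplit]
      exact block_dvd hM h.cube hp3 c d hc hd fun P => P.card_eq_multiplicity
    · rw [← hsplit]
      refine part_bound _ c (fun χ => (d χ : ℤ)) hsq horth ?_
      have : ((∑ χ, d χ ^ 2 : ℕ) : ℤ) = ((D : ℕ) : ℤ) := by rw [hdeg, hDG]
      push_cast [hD] at this ⊢
      exact this
    · have h1 : (r : ℤ) ∣ ∑ χ ∈ s.filter (· ∈ Cfsg.principalBlock M G), c χ * (d χ : ℤ) :=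
        Finset.dvd_sum fun χ hχ => dvd_mul_of_dvd_right (Int.natCast_dvd_natCast.2
          (hin χ (Finset.mem_filter.1 hχ).1 (Finset.mem_filter.1 hχ).2)) _
      have h2 : (r : ℤ) ∣ 1 := by
        have := (dvd_neg.2 h1)
        rwa [show -(∑ χ ∈ s.filter (· ∈ Cfsg.principalBlock M G), c χ * (d χ : ℤ)) = 1 by linarith] at this
      exact hr.ne_one (Nat.dvd_one.1 (by exact_mod_cast h2))
  have hfac2 : (Nat.card G).factorization 2 = a ∧ (Nat.card G).factorization q = b := by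
    rw [hcard, mul_assoc, Nat.factorization_mul (by norm_num) (by positivity), Finsupp.add_apply,
      Finsupp.add_apply, (factorization_two_q hq (by omega)).1, (factorization_two_q hq (by omega)).2,
      Nat.factorization_eq_zero_of_not_dvd (by norm_num : ¬ 2 ∣ 9),
      Nat.factorization_eq_zero_of_not_dvd (fun hd9 => ?_), zero_add, zero_add]
    · exact ⟨rfl, rfl⟩
    · have := Nat.le_of_dvd (by norm_num) hd9
      interval_cases q <;> first | omega | exact absurd hq (by norm_num)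
  obtain ⟨M2, hin2, hA2, hB2, hne2⟩ := hblock 2 q Nat.prime_two hq (by norm_num) fun χ hχ => by
    rw [hfac2.1, hfac2.2]; exact (hsv χ hχ).2.2.2.2
  obtain ⟨Mq, -, hAq, hBq, hneq⟩ := hblock q 2 hq Nat.prime_two (by omega) fun χ hχ => by
    rw [hfac2.1, hfac2.2, mul_comm]; exact (hsv χ hχ).2.2.2.2
  rw [hfac2.1] at hA2
  rw [hfac2.2] at hAq
  have hsqle : ∀ {n : ℕ} {z : ℤ}, (n : ℤ) ∣ z → z ≠ 0 → z ^ 2 ≤ 20 * ((A * Q : ℕ) : ℤ) →
      n * n ≤ 20 * (A * Q) := by
    intro n z hdz hz0 hz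
    have h1 : n ≤ z.natAbs := Nat.le_of_dvd (Int.natAbs_pos.2 hz0) (Int.natCast_dvd.1 hdz)
    have h2 : ((z.natAbs * z.natAbs : ℕ) : ℤ) ≤ ((20 * (A * Q) : ℕ) : ℤ) := by
      push_cast at hz ⊢
      rw [abs_mul_abs_self]
      linarith [sq z ▸ hz]
    exact (Nat.mul_le_mul h1 h1).trans (by exact_mod_cast h2)
  have hAQ : A ≤ 20 * Q := by
    have := hsqle hA2 hne2 hB2
    rw [← hA] at this
    exact Nat.le_of_mul_le_mul_left (by linarith [show A * (20 * Q) = 20 * (A * Q) by ring] :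
      A * A ≤ A * (20 * Q)) (by positivity)
  have hQA : Q ≤ 20 * A := by
    have := hsqle hAq hneq hBq
    rw [← hQ] at this
    exact Nat.le_of_mul_le_mul_left (by linarith [show Q * (20 * A) = 20 * (A * Q) by ring] :
      Q * Q ≤ Q * (20 * A)) (pow_pos hq.pos b)
  -- the structure constant
  set T := Finset.univ.filter fun g : G => IsConj (g * x * g⁻¹ * x) x with hT
  have hT9 : T.card = 9 * (T.image fun g => g * x * g⁻¹).card := h.card_eq_nine_mul T fun g hg t ht => by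
    simp only [hT, Finset.mem_filter, Finset.mem_univ, true_and] at hg ⊢
    rwa [show g * t * x * (g * t)⁻¹ = g * (t * x) * t⁻¹ * g⁻¹ by group, h.ti.comm t ht x h.mem,
      show g * (x * t) * t⁻¹ * g⁻¹ = g * x * g⁻¹ by group]
  have hTle : T.card ≤ 9 * bnd q a b := by
    refine h.card_pairs_le.trans (Nat.mul_le_mul_left 9 ?_)
    have := h.card_union_le inferInstance hnc hq5 ha hcard
    omega
  have hTpos : 0 < T.card := Finset.card_pos.2 ⟨1, by
    simp only [hT, Finset.mem_filter, Finset.mem_univ, true_and, one_mul, inv_one, mul_one]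
    refine (hfus _ ?_ ?_).symm
    · rw [← sq, ← pow_mul, show 2 * 3 = 3 * 2 from rfl, pow_mul, h.cube, one_pow]
    · intro e
      refine h.ne ?_
      calc x = x ^ 3 := by rw [pow_succ, sq, e, one_mul]
        _ = 1 := h.cube⟩
  have ht : (D : ℤ) + ∑ χ ∈ s, term D (c χ) (d χ) = 9 * (T.card : ℤ) := by
    have ht := SelfCentThree.triple x x x
    simp only [h.ti.cent x h.mem h.ne, h.ti.card, hc, hd, map_intCast] at ht
    have h1 := hsum (fun χ => term D (c χ) (d χ)) fun χ e => by simp [term, e]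
    rw [show term D (c o) (d o) = (D : ℤ) by simp [term, htc, htd]] at h1
    rw [← h1]
    have e : ((∑ χ, term D (c χ) (d χ) : ℤ) : ℂ) = ((9 * (T.card : ℤ) : ℤ) : ℂ) := by
      push_cast
      have hG : (Nat.card G : ℂ) ≠ 0 := Char.card_ne_zero
      have e2 : ∀ χ, ((term D (c χ) (d χ) : ℤ) : ℂ) =
          (Nat.card G : ℂ) * ((c χ : ℂ) * (c χ : ℂ) * (c χ : ℂ) / (d χ : ℂ)) := fun χ => by
        have hd0 : (d χ : ℂ) ≠ 0 := by
          rw [← hd χ]; exact Char.IsIrr.one_ne_zero χ.2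
        rw [term, Int.cast_mul, Int.cast_pow, Int.cast_natCast, Nat.cast_div (hDG ▸ hdvd χ) hd0, hDG]
        ring
      rw [Finset.sum_congr rfl fun χ _ => e2 χ, ← Finset.mul_sum, ht, ← hT]
      field_simp
      push_cast
      ring
    exact_mod_cast e
  -- the lower bound
  have hlow : (D : ℤ) ≤ 8 * ((D : ℤ) + ∑ χ ∈ s, term D (c χ) (d χ)) :=
    low_bound s c d hq hw8 hS1 (hDG ▸ hdvd) hsv (by rw [ht]; positivity)
  have hL : (D : ℤ) + ∑ χ ∈ s, term D (c χ) (d χ) ≤ 81 * (bnd q a b : ℤ) := by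
    rw [ht]
    have : (T.card : ℤ) ≤ 9 * (bnd q a b : ℤ) := by exact_mod_cast hTle
    linarith
  have hAQ72 : A * Q ≤ 72 * bnd q a b := by
    have : ((9 * (A * Q) : ℕ) : ℤ) ≤ ((9 * (72 * bnd q a b) : ℕ) : ℤ) := by
      rw [hD] at hlow hL
      push_cast at hlow hL ⊢
      linarith
    have : 9 * (A * Q) ≤ 9 * (72 * bnd q a b) := by exact_mod_cast this
    omega
  obtain ⟨hq3071, ha13, hb6, hbq⟩ := range_bound hq5 hb hAQ hQA hAQ72
  have hq2' : ¬ 2 ∣ q := fun hd2 => by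
    have := (Nat.prime_dvd_prime_iff_eq Nat.prime_two hq).1 hd2; omega
  have hq3' : ¬ 3 ∣ q := fun hd3 => by
    have := (Nat.prime_dvd_prime_iff_eq Nat.prime_three hq).1 hd3; omega
  have hchk := check_eq hq5 hq3071 hq2' hq3' ha ha13 hb hb6 hbq
  simp only [check, Bool.or_eq_true, decide_eq_true_eq, Bool.not_eq_true', decide_eq_false_iff_not] at hchk
  rcases hchk with ((((hh | hh) | hh) | hh) | hh) | hh
  · omega
  · omega
  · exact hh hcongr
  · exact absurd hh (not_lt.2 hAQ72)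
  · rw [Bool.eq_false_iff] at hh
    refine hh ?_
    simp only [List.all_eq_true, List.mem_range, Bool.or_eq_true, decide_eq_true_eq, Bool.not_eq_true',
      decide_eq_false_iff_not]
    intro e _
    by_contra hcon
    push Not at hcon
    obtain ⟨⟨he2, hee⟩, hqe⟩ := hcon
    have : e ∣ q := Nat.dvd_of_mod_eq_zero hqe
    rcases hq.eq_one_or_self_of_dvd e this with e1 | e1
    · omega
    · subst e1; nlinarith
  · have hA1 : 1 < A := Nat.one_lt_two_pow (by omega)
    have hsq2 : 0 + ∑ χ ∈ s, d χ ^ 2 < D := by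
      rw [← hDG, ← hdeg, zero_add]
      refine Finset.sum_lt_sum_of_subset (Finset.subset_univ s) (Finset.mem_univ o)
        (by simp [hs]) (by rw [htd]; norm_num) fun χ _ _ => Nat.zero_le _
    have hfalse : dfs ⟨q, A, D, 81 * (bnd q a b : ℤ)⟩ (pack D (sortDesc (cands q a b))) 8 1 (D : ℤ) 0 [1] = false := by
      refine dfs_sound c d (· ∈ Cfsg.principalBlock M2 G) ⟨q, A, D, 81 * (bnd q a b : ℤ)⟩ _ s 8 1 (D : ℤ) 0 [1] 1
        (goodAll_pack D _).1 (fun χ hχ => ?_) ?_ hS1 hL ?_ hsq2 (List.mem_singleton_self _)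
        (Int.emod_eq_of_lt (by norm_num) (by exact_mod_cast hA1)) ?_ hin2
      · rw [keys_pack, mem_sortDesc]
        obtain ⟨hv, hd2, -, hcd, hdAQ⟩ := hsv χ hχ
        simp only [cands, List.mem_flatMap]
        refine ⟨d χ, ?_, ?_⟩
        · obtain ⟨u, v, hu, hv', e⟩ := exists_dvd_and_dvd_of_dvd_mul hdAQ
          obtain ⟨i, hi, rfl⟩ := (Nat.dvd_prime_pow Nat.prime_two).1 hu
          obtain ⟨j, hj, rfl⟩ := (Nat.dvd_prime_pow hq).1 hv'
          simp only [divisors, List.mem_flatMap, List.mem_map, List.mem_range]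
          exact ⟨i, Nat.lt_succ_of_le hi, j, Nat.lt_succ_of_le hj, e.symm⟩
        · have hlt : d χ * d χ < 9 * (2 ^ a * q ^ b) := by
            have := Finset.single_le_sum (f := fun ξ => d ξ ^ 2) (fun ξ _ => Nat.zero_le _) hχ
            simp only [sq] at this hsq2
            rw [hD, hA, hQ] at hsq2
            omega
          rw [if_pos ⟨hd2, hlt⟩, List.mem_filterMap]
          refine ⟨c χ, by rcases hv with e | e | e | e <;> simp [e], ?_⟩
          rw [if_pos (Int.emod_eq_zero_of_dvd hcd)]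
      · have : ((∑ χ ∈ s, (c χ).natAbs ^ 2 : ℕ) : ℤ) = ((8 : ℕ) : ℤ) := by
          push_cast
          rw [← hw8]
          exact Finset.sum_congr rfl fun χ _ => sq_abs _
        exact_mod_cast this
      · rw [ht, hT9]
        exact ⟨((T.image fun g => g * x * g⁻¹).card : ℤ), by push_cast; ring⟩
      · simpa [hA] using hA2
    rw [hD, hA, hQ] at hfalse
    rw [hfalse] at hh
    exact Bool.false_ne_true hh

end Cfsg.Agent.NineEight
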