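import Cfsg.Agent.ThreeTINine.Local
import Cfsg.Agent.SelfCentThree.Main

/-!
# Subgroups normalized by an element of a self-centralizing Sylow subgroup of order nine
-/

set_option autoImplicit false

namespace Cfsg.Agent.NineEight

open Subgroup
open Cfsg.Agent.ThreeTINine (TI)
open Cfsg.Agent.SelfCentThree (Inv Sc Concl part cj card_mod_three conj_mem_of_norm
  inv_conj_mem_of_norm)

universe u

variable {G : Type u} [Group G] [Finite G] {S : Subgroup G} {x : G}

/-- A fixed element of order three in `S`. -/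
structure Pt (S : Subgroup G) (x : G) : Prop where
  ti : TI S
  mem : x ∈ S
  ne : x ≠ 1

theorem Pt.cube (h : Pt S x) : x ^ 3 = 1 := h.ti.cube x h.mem

omit [Finite G] in
theorem Pt.mem_of_commute (h : Pt S x) {g : G} (hc : g * x = x * g) : g ∈ S := by
  rw [← h.ti.cent x h.mem h.ne, mem_centralizer_singleton_iff]; exact hc

omit [Finite G] in
/-- Another element of `S`. -/
theorem Pt.change (h : Pt S x) {y : G} (hy : y ∈ S) (hy1 : y ≠ 1) : Pt S y := ⟨h.ti, hy, hy1⟩

variable {K : Subgroup G}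

/-- Only the identity is fixed. -/
theorem Pt.fix (h : Pt S x) (hK : Inv x K) {g : G} (hg : g ∈ K) (hc : g * x = x * g) : g = 1 := by
  by_contra hne
  have h3 : g ^ 3 = 1 := h.ti.cube g (h.mem_of_commute hc)
  have : Fact (Nat.Prime 3) := ⟨Nat.prime_three⟩
  exact hK.not_three_dvd_orderOf hg (by rw [orderOf_eq_prime h3 hne])

/-- Every element of the coset of `x` is a conjugate of `x`. -/
theorem Pt.exists_conj (h : Pt S x) (hK : Inv x K) {k : G} (hk : k ∈ K) :
    ∃ a ∈ K, a * x * a⁻¹ = k * x := by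
  let f : K → K := fun a => ⟨a * (x * (a : G)⁻¹ * x⁻¹),
    mul_mem a.2 (conj_mem_of_norm hK.norm (inv_mem a.2))⟩
  have hf : Function.Injective f := by
    rintro ⟨a, ha⟩ ⟨b, hb⟩ e
    have e' : a * (x * a⁻¹ * x⁻¹) = b * (x * b⁻¹ * x⁻¹) := congrArg Subtype.val e
    have hc : (b⁻¹ * a) * x = x * (b⁻¹ * a) := by
      calc (b⁻¹ * a) * x = b⁻¹ * (a * (x * a⁻¹ * x⁻¹)) * x * a := by group
        _ = b⁻¹ * (b * (x * b⁻¹ * x⁻¹)) * x * a := by rw [e']
        _ = x * (b⁻¹ * a) := by group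
    exact Subtype.ext (inv_mul_eq_one.1 (h.fix hK (mul_mem (inv_mem hb) ha) hc)).symm
  obtain ⟨⟨a, ha⟩, e⟩ := Finite.injective_iff_surjective.1 hf ⟨k, hk⟩
  have e' : a * (x * a⁻¹ * x⁻¹) = k := congrArg Subtype.val e
  exact ⟨a, ha, by rw [← e']; group⟩

/-- An element times its two images is the identity. -/
theorem Pt.norm_eq_one (h : Pt S x) (hK : Inv x K) {k : G} (hk : k ∈ K) :
    k * (x * k * x⁻¹) * (x⁻¹ * k * x) = 1 := by
  obtain ⟨a, -, e⟩ := h.exists_conj hK hk
  have h3 : x⁻¹ = x * x := inv_eq_of_mul_eq_one_right (a := x)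
    (by rw [← h.cube, pow_succ, sq]; group)
  have hk3 : (k * x) ^ 3 = 1 := by rw [← e, conj_pow, h.cube, mul_one, mul_inv_cancel]
  calc k * (x * k * x⁻¹) * (x⁻¹ * k * x) = k * x * k * ((x * x)⁻¹) * k * x := by group
    _ = k * x * k * x * k * x := by rw [← h3, inv_inv]
    _ = (k * x) ^ 3 := by rw [pow_succ, sq]; group
    _ = 1 := hk3

theorem Pt.inv_nilpotent (h : Pt S x) (hK : Inv x K) : Group.IsNilpotent K :=
  Coherence.isNilpotent_of_fpf_prime Nat.prime_three h.cube hK.norm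
    (eq_bot_iff.2 fun _ hg => mem_bot.2 (h.fix hK hg.1 (mem_centralizer_singleton_iff.1 hg.2)))

theorem Pt.card_mod (h : Pt S x) (hK : Inv x K) : Nat.card K % 3 = 1 := by
  let σ : Equiv.Perm K :=
    { toFun := fun a => ⟨x * a * x⁻¹, conj_mem_of_norm hK.norm a.2⟩
      invFun := fun a => ⟨x⁻¹ * a * x, inv_conj_mem_of_norm hK.norm a.2⟩
      left_inv := fun a => Subtype.ext (by simp [mul_assoc])
      right_inv := fun a => Subtype.ext (by simp [mul_assoc]) }
  refine card_mod_three σ ?_ 1 fun b => ?_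
  · ext b
    show x * (x * (x * (b : G) * x⁻¹) * x⁻¹) * x⁻¹ = b
    calc x * (x * (x * (b : G) * x⁻¹) * x⁻¹) * x⁻¹ = x ^ 3 * b * (x ^ 3)⁻¹ := by
          rw [pow_succ, sq]; group
      _ = b := by rw [h.cube]; group
  · refine ⟨fun e => Subtype.ext (h.fix hK b.2 ?_), fun e => by subst e; exact Subtype.ext (by simp [σ])⟩
    have e' : x * (b : G) * x⁻¹ = b := congrArg Subtype.val e
    rw [mul_inv_eq_iff_eq_mul] at e'
    exact e'.symm

/-- `S` meets the normalizer of a nontrivial invariant subgroup in `⟨x⟩`. -/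
theorem Pt.eq_one_of_mem (h : Pt S x) (hK : Inv x K) {y : G} (hy : y ∈ S) (hyx : y ∉ zpowers x)
    (hyK : y ∈ normalizer (K : Set G)) : K = ⊥ := by
  by_contra hne
  have hnil := h.inv_nilpotent hK
  have : Nontrivial K := (nontrivial_iff_ne_bot K).2 hne
  obtain ⟨⟨d, hd⟩, hdz, hd1⟩ := (Subgroup.bot_or_exists_ne_one (center K)).resolve_left
    (Group.IsNilpotent.center_ne_bot (G := K))
  rw [mem_center_iff] at hdz
  have hdc : ∀ k ∈ K, k * d = d * k := fun k hk => congrArg Subtype.val (hdz ⟨k, hk⟩)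
  refine hd1 (Subtype.ext ?_)
  show d = 1
  have hxy : x * y = y * x := h.ti.comm x h.mem y hy
  have hy1 : y ≠ 1 := fun e => hyx (e ▸ one_mem _)
  have hz : ∀ i : ℤ, y ≠ x ^ i := fun i e => hyx (e ▸ mem_zpowers_iff.2 ⟨i, rfl⟩)
  have hxy1 : x * y ≠ 1 := fun e => hz (-1) (by rw [zpow_neg_one]; exact eq_inv_of_mul_eq_one_right e)
  have hxy2 : x * y⁻¹ ≠ 1 := fun e => hz 1 (by rw [zpow_one]; exact (mul_inv_eq_one.1 e).symm)
  -- conjugation as a monoid homomorphism
  let c : G → G → G := fun g v => g * v * g⁻¹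
  have cm : ∀ g v w, c g (v * w) = c g v * c g w := fun g v w => by simp only [c]; group
  have cc : ∀ g k v, c g (c k v) = c (g * k) v := fun g k v => by simp only [c]; group
  have c1 : ∀ v, c 1 v = v := fun v => by simp [c]
  have cK : ∀ g ∈ normalizer (K : Set G), ∀ v ∈ K, c g v ∈ K := fun g hg v hv =>
    conj_mem_of_norm hg hv
  have hN : ∀ z ∈ S, z ≠ 1 → z ∈ normalizer (K : Set G) → ∀ v ∈ K,
      v * c z v * c z⁻¹ v = 1 := fun z hz hz1 hzK v hv => by
    have := (h.change hz hz1).norm_eq_one ⟨hzK, hK.cop⟩ hv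
    simpa only [c, inv_inv] using this
  have hx := hK.norm
  -- the central element
  have hcen : ∀ g ∈ normalizer (K : Set G), ∀ v ∈ K, v * c g d = c g d * v := fun g hg v hv => by
    have h1 := hdc (g⁻¹ * v * g) (inv_conj_mem_of_norm hg hv)
    calc v * (g * d * g⁻¹) = g * ((g⁻¹ * v * g) * d) * g⁻¹ := by group
      _ = g * (d * (g⁻¹ * v * g)) * g⁻¹ := by rw [h1]
      _ = g * d * g⁻¹ * v := by group
  let Z : Subgroup G := K ⊓ centralizer (K : Set G)
  have hZc : IsMulCommutative Z := ⟨⟨fun a b => Subtype.ext (b.2.2 a.1 a.2.1)⟩⟩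
  letI : CommGroup Z := { (inferInstance : Group Z) with mul_comm := hZc.is_comm.comm }
  have hmem : ∀ g ∈ normalizer (K : Set G), c g d ∈ Z := fun g hg =>
    ⟨cK g hg d hd, mem_centralizer_iff.2 fun v hv => hcen g hg v hv⟩
  have hyi := inv_mem hyK
  have hxi := inv_mem hx
  -- the nine conjugates
  let e : ∀ g ∈ normalizer (K : Set G), Z := fun g hg => ⟨c g d, hmem g hg⟩
  have hrow : ∀ g (hg : g ∈ normalizer (K : Set G)), ∀ z (hz : z ∈ S) (_ : z ≠ 1)
      (hzK : z ∈ normalizer (K : Set G)),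
      e g hg * e (z * g) (mul_mem hzK hg) * e (z⁻¹ * g) (mul_mem (inv_mem hzK) hg) = 1 := by
    intro g hg z hz hz1 hzK
    refine Subtype.ext ?_
    show c g d * c (z * g) d * c (z⁻¹ * g) d = 1
    rw [← cc, ← cc]
    exact hN z hz hz1 hzK _ (cK g hg d hd)
  have r0 := hrow 1 (one_mem _) x h.mem h.ne hx
  have r1 := hrow y hyK x h.mem h.ne hx
  have r2 := hrow y⁻¹ hyi x h.mem h.ne hx
  have s0 := hrow 1 (one_mem _) y hy hy1 hyK
  have s1 := hrow 1 (one_mem _) (x * y) (mul_mem h.mem hy) hxy1 (mul_mem hx hyK)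
  have s2 := hrow 1 (one_mem _) (x * y⁻¹) (mul_mem h.mem (inv_mem hy)) hxy2 (mul_mem hx hyi)
  have hd3 : (e 1 (one_mem _)) ^ 3 = 1 := by
    have hxy' : (x * y)⁻¹ = x⁻¹ * y⁻¹ := by rw [hxy, mul_inv_rev]
    have hxy'' : (x * y⁻¹)⁻¹ = x⁻¹ * y := by
      rw [mul_inv_rev, inv_inv]
      calc y * x⁻¹ = x⁻¹ * (x * y) * x⁻¹ := by group
        _ = x⁻¹ * (y * x) * x⁻¹ := by rw [hxy]
        _ = x⁻¹ * y := by group
    simp only [mul_one, hxy', hxy''] at r0 r1 r2 s0 s1 s2
    calc e 1 (one_mem _) ^ 3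
        = e 1 (one_mem _) ^ 3 * ((e 1 (one_mem _) * e x hx * e x⁻¹ hxi) *
            (e y hyK * e (x * y) (mul_mem hx hyK) * e (x⁻¹ * y) (mul_mem hxi hyK)) *
            (e y⁻¹ hyi * e (x * y⁻¹) (mul_mem hx hyi) * e (x⁻¹ * y⁻¹) (mul_mem hxi hyi))) := by
          rw [r0, r1, r2, one_mul, one_mul, mul_one]
      _ = (e 1 (one_mem _) * e x hx * e x⁻¹ hxi) *
            (e 1 (one_mem _) * e y hyK * e y⁻¹ hyi) *
            (e 1 (one_mem _) * e (x * y) (mul_mem hx hyK) * e (x⁻¹ * y⁻¹) (mul_mem hxi hyi)) *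
            (e 1 (one_mem _) * e (x * y⁻¹) (mul_mem hx hyi) * e (x⁻¹ * y) (mul_mem hxi hyK)) := by
          rw [pow_succ, sq]; ac_rfl
      _ = 1 := by rw [r0, s0, s1, s2, one_mul, one_mul, one_mul]
  by_contra hd0
  have hd3' : d ^ 3 = 1 := by simpa [e, c] using congrArg (fun z : Z => (z : G)) hd3
  have : Fact (Nat.Prime 3) := ⟨Nat.prime_three⟩
  exact hK.not_three_dvd_orderOf hd (by rw [orderOf_eq_prime hd3' hd0])

/-- Inside the normalizer `x` is self-centralizing. -/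
theorem Pt.sc_normalizer (h : Pt S x) (hK : Inv x K) (hne : K ≠ ⊥) :
    Sc (⟨x, hK.norm⟩ : normalizer (K : Set G)) := by
  refine ⟨Subtype.ext (by simpa using h.cube), fun e => h.ne (congrArg Subtype.val e), ?_⟩
  refine le_antisymm (fun g hg => ?_) (zpowers_le.2 (mem_centralizer_singleton_iff.2 rfl))
  rw [mem_centralizer_singleton_iff] at hg
  by_contra hgz
  refine hne (h.eq_one_of_mem hK (h.mem_of_commute (congrArg Subtype.val hg)) (fun hz => hgz ?_) g.2)
  obtain ⟨i, hi⟩ := mem_zpowers_iff.1 hz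
  exact mem_zpowers_iff.2 ⟨i, Subtype.ext (by simpa using hi)⟩

/-- The structure of the normalizer of a nontrivial invariant subgroup: three or six times a
nilpotent subgroup that contains every invariant subgroup. -/
structure Loc (x : G) (H N : Subgroup G) : Prop where
  xH : x ∈ H
  le : N ≤ H
  normal : H ≤ normalizer (N : Set G)
  inv : Inv x N
  nil : Group.IsNilpotent N
  card : Nat.card H = 3 * Nat.card N ∨ Nat.card H = 6 * Nat.card N
  absorb : ∀ Y : Subgroup G, Inv x Y → Y ≤ H → Y ≤ N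

/-- The other possibility. -/
def Five (x : G) (H : Subgroup G) : Prop :=
  ∃ (N : Subgroup H) (_ : N.Normal), x ∈ H ∧ (∀ n ∈ N, n ^ 2 = 1) ∧
    Nonempty (H ⧸ N ≃* alternatingGroup (Fin 5))

theorem Pt.local_structure (h : Pt S x) (hK : Inv x K) (hne : K ≠ ⊥) :
    (∃ N, Loc x (normalizer (K : Set G)) N) ∨ Five x (normalizer (K : Set G)) := by
  have hsc := h.sc_normalizer hK hne
  set H := normalizer (K : Set G) with hH
  rcases SelfCentThree.concl _ H rfl _ hsc with
    ⟨N, hN, hnil, hN3, hq⟩ | ⟨N, hN, -, hN2, he⟩ | ⟨⟨e⟩⟩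
  · left
    have hN3' : ¬ 3 ∣ Nat.card N := fun hd =>
      Nat.prime_three.one_lt.ne' (Nat.Coprime.eq_one_of_dvd hN3.symm hd)
    have hq' : Nat.card (H ⧸ N) = 3 ∨ Nat.card (H ⧸ N) = 6 := by
      rcases hq with hq | ⟨⟨e⟩⟩
      · exact Or.inl hq
      · exact Or.inr (by rw [Nat.card_congr e.toEquiv, Nat.card_perm, Nat.card_fin]; rfl)
    have hNinv : Inv (⟨x, hK.norm⟩ : H) N := ⟨by rw [normalizer_eq_top (H := N)]; trivial, hN3'⟩
    refine ⟨N.map H.subtype, hK.norm, map_subtype_le _, ?_, hNinv.map_subtype,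
      Group.nilpotent_of_mulEquiv (N.equivMapOfInjective _ H.subtype_injective), ?_,
      fun Y hY hYH => ?_⟩
    · refine le_trans ?_ (N.le_normalizer_map H.subtype)
      rw [normalizer_eq_top (H := N), ← MonoidHom.range_eq_map, range_subtype]
    · rw [card_map_of_injective H.subtype_injective]
      rcases hq' with e | e
      · left; rw [card_eq_card_quotient_mul_card_subgroup N, e]
      · right; rw [card_eq_card_quotient_mul_card_subgroup N, e]
    · have hY' := hY.subgroupOf hYH hK.norm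
      have h1 := hY'.map_card_mod hsc (QuotientGroup.mk' N)
      have h2 := card_subgroup_dvd_card ((Y.subgroupOf H).map (QuotientGroup.mk' N))
      have h3 : ¬ 3 ∣ Nat.card ((Y.subgroupOf H).map (QuotientGroup.mk' N)) := fun hd =>
        hY'.cop (hd.trans (card_map_dvd ..))
      have h4 : Nat.card ((Y.subgroupOf H).map (QuotientGroup.mk' N)) = 1 := by
        generalize Nat.card ((Y.subgroupOf H).map (QuotientGroup.mk' N)) = d at h1 h2 h3
        rcases hq' with e | e <;> rw [e] at h2 <;>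
          have := Nat.le_of_dvd (by norm_num) h2 <;> interval_cases d <;> omega
      have h5 := card_eq_one.1 h4
      rw [Subgroup.map_eq_bot_iff, QuotientGroup.ker_mk'] at h5
      exact fun a ha => ⟨⟨a, hYH ha⟩, h5 ha, rfl⟩
  · exact Or.inr ⟨N, hN, hK.norm, hN2, he⟩
  · exfalso
    obtain ⟨hs, hc⟩ := SelfCentThree.psl_seven
    have hH' : IsSimpleGroup H := e.isSimpleGroup
    have hKn : (K.subgroupOf H).Normal := normal_in_normalizer
    rcases hKn.eq_bot_or_eq_top with e1 | e1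
    · rw [subgroupOf_eq_bot, disjoint_iff] at e1
      refine hne (eq_bot_iff.2 fun k hk => ?_)
      have : k ∈ K ⊓ H := ⟨hk, le_normalizer hk⟩
      rwa [e1] at this
    · refine hK.cop ?_
      rw [← Nat.card_congr (subgroupOfEquivOfLe (le_normalizer (H := K))).toEquiv, e1,
        Subgroup.card_top, Nat.card_congr e.toEquiv, hc]
      norm_num

/-- Larger two-subgroups in the second possibility. -/
theorem Pt.five_extend (h : Pt S x) (hK : Inv x K) (hne : K ≠ ⊥) (hK2 : IsPGroup 2 K)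
    (hF : Five x (normalizer (K : Set G))) :
    ∃ W : Subgroup G, Inv x W ∧ IsPGroup 2 W ∧ K ≤ W ∧ K ≠ W := by
  have : Fact (Nat.Prime 2) := ⟨Nat.prime_two⟩
  have hsc := h.sc_normalizer hK hne
  set H := normalizer (K : Set G) with hH
  obtain ⟨N, hN, hxH, hN2, ⟨e⟩⟩ := hF
  haveI := hN
  have hNp : IsPGroup 2 N := fun a => ⟨1, Subtype.ext (by simpa using hN2 a a.2)⟩
  have hN3 : ¬ 3 ∣ Nat.card N := fun hd => by
    obtain ⟨k, hk⟩ := hNp.exists_card_eq
    rw [hk] at hd
    exact absurd (Nat.prime_three.dvd_of_dvd_pow hd) (by norm_num)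
  have hcQ : Nat.card (H ⧸ N) = 60 := (Nat.card_congr e.toEquiv).trans SelfCentThree.card_alt_five
  have hsQ : IsSimpleGroup (H ⧸ N) := e.isSimpleGroup
  obtain ⟨V, hV, hVc⟩ := SelfCentThree.exists_klein_sixty hcQ (hsc.quotient N hN3)
  have hKn : (K.subgroupOf H).Normal := normal_in_normalizer
  have hKp : IsPGroup 2 (K.subgroupOf H) := hK2.of_equiv (subgroupOfEquivOfLe le_normalizer).symm
  have hKN : K.subgroupOf H ≤ N := by
    rcases (hKn.map _ (QuotientGroup.mk'_surjective N)).eq_bot_or_eq_top with e1 | e1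
    · rwa [Subgroup.map_eq_bot_iff, QuotientGroup.ker_mk'] at e1
    · exfalso
      obtain ⟨k, hk⟩ := (hKp.map (QuotientGroup.mk' N)).exists_card_eq
      rw [e1, Subgroup.card_top, hcQ] at hk
      exact absurd (Nat.prime_three.dvd_of_dvd_pow (hk ▸ (by norm_num : 3 ∣ 60)))
        (by norm_num : ¬ 3 ∣ 2)
  set W := V.comap (QuotientGroup.mk' N)
  have hV3 : Inv (QuotientGroup.mk' N (⟨x, hxH⟩ : H)) V := ⟨hV, by rw [hVc]; norm_num⟩
  have hW : Inv (⟨x, hxH⟩ : H) W := Inv.comap _ (QuotientGroup.mk'_surjective N)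
    (by rw [QuotientGroup.ker_mk']; exact hN3) hV3
  have hWc : Nat.card W = 4 * Nat.card N := by
    have h1 := W.card_mul_index
    rw [index_comap_of_surjective _ (QuotientGroup.mk'_surjective N)] at h1
    have h2 := V.card_mul_index
    rw [hVc, hcQ] at h2
    have h3 := card_eq_card_quotient_mul_card_subgroup N
    rw [hcQ] at h3
    rw [h3, show V.index = 15 by omega] at h1
    omega
  have hWp : IsPGroup 2 W := by
    obtain ⟨k, hk⟩ := hNp.exists_card_eq
    exact IsPGroup.of_card (n := k + 2) (by rw [hWc, hk, pow_add]; ring)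
  refine ⟨W.map H.subtype, hW.map_subtype, hWp.map _, fun k hk => ⟨⟨k, le_normalizer hk⟩, ?_, rfl⟩,
    fun e1 => ?_⟩
  · show QuotientGroup.mk' N _ ∈ V
    rw [QuotientGroup.mk'_apply, (QuotientGroup.eq_one_iff _).2 (hKN (by exact hk))]
    exact one_mem V
  · have hc : Nat.card K = Nat.card W := by
      rw [e1, card_map_of_injective H.subtype_injective]
    have hle := card_le_of_le hKN
    rw [Nat.card_congr (subgroupOfEquivOfLe (le_normalizer (H := K))).toEquiv, hc, hWc] at hle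
    have := Nat.card_pos (α := N)
    omega

/-- The second possibility leaves no room for invariant subgroups of order prime to ten. -/
theorem Pt.five_no_odd {H Y : Subgroup G} (h : Pt S x) (hF : Five x H) {q : ℕ} [Fact q.Prime]
    (hq : q ≠ 2) (hY : Inv x Y) (hYH : Y ≤ H) (hYq : IsPGroup q Y) : Y = ⊥ := by
  obtain ⟨N, hN, hxH, hN2, ⟨e⟩⟩ := hF
  haveI := hN
  have hY' := hY.subgroupOf hYH hxH
  obtain ⟨k, hk⟩ := hYq.exists_card_eq
  set f := (e.toMonoidHom).comp (QuotientGroup.mk' N) with hf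
  have hcard : Nat.card ((Y.subgroupOf H).map f) ∣ Nat.card Y :=
    (card_map_dvd ..).trans (dvd_of_eq (Nat.card_congr (subgroupOfEquivOfLe hYH).toEquiv))
  have h60 := card_subgroup_dvd_card ((Y.subgroupOf H).map f)
  rw [SelfCentThree.card_alt_five] at h60
  have h1 : Nat.card ((Y.subgroupOf H).map f) % 3 = 1 := by
    by_cases hY1 : Y = ⊥
    · subst hY1; simp
    have hsc := h.sc_normalizer hY hY1
    have hx' : (⟨x, hxH⟩ : H) ∈ normalizer ((Y.subgroupOf H : Subgroup H) : Set H) := hY'.norm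
    let σ : Equiv.Perm ((Y.subgroupOf H).map f) :=
      { toFun := fun a => ⟨f ⟨x, hxH⟩ * a * (f ⟨x, hxH⟩)⁻¹,
          conj_mem_of_norm (((Y.subgroupOf H)).le_normalizer_map f ⟨_, hx', rfl⟩) a.2⟩
        invFun := fun a => ⟨(f ⟨x, hxH⟩)⁻¹ * a * f ⟨x, hxH⟩,
          inv_conj_mem_of_norm (((Y.subgroupOf H)).le_normalizer_map f ⟨_, hx', rfl⟩) a.2⟩
        left_inv := fun a => Subtype.ext (by simp [mul_assoc])
        right_inv := fun a => Subtype.ext (by simp [mul_assoc]) }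
    have hx3 : (⟨x, hxH⟩ : H) ^ 3 = 1 := Subtype.ext (by simpa using h.cube)
    refine card_mod_three σ ?_ 1 fun b => ?_
    · refine Equiv.ext fun b => Subtype.ext ?_
      show f ⟨x, hxH⟩ * (f ⟨x, hxH⟩ * (f ⟨x, hxH⟩ * b.1 * (f ⟨x, hxH⟩)⁻¹) * (f ⟨x, hxH⟩)⁻¹) *
        (f ⟨x, hxH⟩)⁻¹ = b.1
      calc _ = f ⟨x, hxH⟩ ^ 3 * b.1 * (f ⟨x, hxH⟩ ^ 3)⁻¹ := by rw [pow_succ, sq]; group
        _ = b.1 := by rw [← map_pow, hx3, map_one]; group
    · refine ⟨fun eb => ?_, fun eb => by subst eb; exact Subtype.ext (by simp [σ])⟩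
      obtain ⟨y, hy, hyb⟩ := b.2
      -- lift the fixed point
      have hker : Inv x ((Y.subgroupOf H ⊓ f.ker).map H.subtype) := by
        refine ⟨(Y.subgroupOf H ⊓ f.ker).le_normalizer_map H.subtype ⟨⟨x, hxH⟩, ?_, rfl⟩,
          fun hd => hY.cop (hd.trans ?_)⟩
        · refine mem_normalizer_iff.2 fun v => ?_
          rw [mem_inf, mem_inf, MonoidHom.mem_ker, MonoidHom.mem_ker,
            ← mem_normalizer_iff.1 hx' v]
          simp [conj_eq_one_iff]
        · exact card_dvd_of_le (map_le_iff_le_comap.2 fun v hv => hv.1)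
      have hc0 : (y : G) * x * (y : G)⁻¹ * x⁻¹ ∈ (Y.subgroupOf H ⊓ f.ker).map H.subtype := by
        refine ⟨y * ⟨x, hxH⟩ * y⁻¹ * ⟨x, hxH⟩⁻¹, ⟨?_, ?_⟩, by simp⟩
        · rw [show y * (⟨x, hxH⟩ : H) * y⁻¹ * (⟨x, hxH⟩ : H)⁻¹ =
            y * (⟨x, hxH⟩ * y⁻¹ * (⟨x, hxH⟩ : H)⁻¹) by group]
          exact mul_mem hy (conj_mem_of_norm hx' (inv_mem hy))
        · have eb' : f ⟨x, hxH⟩ * (b.1) * (f ⟨x, hxH⟩)⁻¹ = b.1 := congrArg Subtype.val eb
          rw [mul_inv_eq_iff_eq_mul] at eb'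
          show _ ∈ f.ker
          rw [MonoidHom.mem_ker, map_mul, map_mul, map_mul, hyb, ← eb', map_inv, map_inv, hyb]
          group
      obtain ⟨v, hv, ev⟩ := h.exists_conj hker hc0
      obtain ⟨w, ⟨hwY, hwk⟩, hwv⟩ := hv
      have hvy : v⁻¹ * (y : G) = 1 := by
        refine h.fix hY (mul_mem (inv_mem (hwv ▸ hwY)) hy) ?_
        calc v⁻¹ * (y : G) * x = v⁻¹ * ((y : G) * x * (y : G)⁻¹ * x⁻¹ * x) * y := by group
          _ = v⁻¹ * (v * x * v⁻¹) * y := by rw [ev]
          _ = x * (v⁻¹ * y) := by group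
      refine Subtype.ext ?_
      rw [← hyb]
      have : y = w := Subtype.ext ((inv_mul_eq_one.1 hvy).symm.trans hwv.symm)
      rw [this, MonoidHom.mem_ker.1 hwk]
      rfl
  rw [hk] at hcard
  obtain ⟨j, -, hj⟩ := (Nat.dvd_prime_pow (Fact.out : q.Prime)).1 hcard
  have hj0 : Nat.card ((Y.subgroupOf H).map f) = 1 := by
    rw [hj] at h60 h1 ⊢
    rcases Nat.eq_zero_or_pos j with rfl | hj0
    · rfl
    exfalso
    have hqp : q.Prime := Fact.out
    have hd : q ∣ 60 := (dvd_pow_self q hj0.ne').trans h60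
    have hq60 := Nat.le_of_dvd (by norm_num) hd
    have hj2 : j ≤ 1 := by
      by_contra hj2
      have hsq : q ^ 2 ∣ 60 := (pow_dvd_pow q (by omega)).trans h60
      have : q ^ 2 ≤ 60 := Nat.le_of_dvd (by norm_num) hsq
      have : q ≤ 7 := by nlinarith
      interval_cases q <;> first | omega | exact absurd hqp (by norm_num)
    obtain rfl : j = 1 := by omega
    rw [pow_one] at h1
    interval_cases q <;> first | omega | exact absurd hqp (by norm_num) | exact absurd hd (by norm_num)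
  have h5 := card_eq_one.1 hj0
  rw [Subgroup.map_eq_bot_iff] at h5
  refine eq_bot_iff.2 fun y hy => mem_bot.2 ?_
  have hy' := h5 (show (⟨y, hYH hy⟩ : H) ∈ Y.subgroupOf H from hy)
  rw [hf, MonoidHom.mem_ker, MonoidHom.comp_apply, MulEquiv.coe_toMonoidHom,
    EmbeddingLike.map_eq_one_iff, QuotientGroup.mk'_apply, QuotientGroup.eq_one_iff] at hy'
  have hy2 : y ^ 2 = 1 := congrArg Subtype.val (hN2 _ hy')
  obtain ⟨i, hi⟩ := hYq ⟨y, hy⟩
  have h1' : orderOf y ∣ q ^ i := orderOf_dvd_of_pow_eq_one (congrArg Subtype.val hi)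
  have h2' : orderOf y ∣ 2 := orderOf_dvd_of_pow_eq_one hy2
  exact orderOf_eq_one_iff.1 (Nat.eq_one_of_dvd_coprimes
    (((Nat.coprime_primes Fact.out Nat.prime_two).2 hq).pow_left i) h1' h2')

end Cfsg.Agent.NineEight
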