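import Cfsg.Agent.NineEight.Local
import Cfsg.Agent.Fusion.Alperin
import Cfsg.Agent.Core.Solvable

/-!
# Maximal invariant two-subgroups
-/

set_option autoImplicit false

namespace Cfsg.Agent.NineEight

open Subgroup
open scoped commutatorElement
open Cfsg.Agent.ThreeTINine (TI)
open Cfsg.Agent.SelfCentThree (Inv part part_le part_isPGroup card_part le_part cj mem_cj
  conj_mem_cj card_cj cj_cj cj_one cj_eq_iff normalizer_le_normalizer_part conj_mem_of_norm
  inv_conj_mem_of_norm)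

universe u

variable {G : Type u} [Group G] [Finite G] {S S' : Subgroup G} {x x' : G}
  {P P' D N S0 : Subgroup G}

omit [Finite G] in
theorem TI_cj (h : TI S) (g : G) : TI (cj g S) := by
  have hm : ∀ a ∈ cj g S, g⁻¹ * a * g ∈ S := fun a ha => mem_cj.1 ha
  refine ⟨fun a ha b hb => ?_, fun a ha => ?_, by rw [card_cj, h.card], fun a ha ha1 => ?_,
    fun a ha => ?_⟩
  · calc a * b = g * ((g⁻¹ * a * g) * (g⁻¹ * b * g)) * g⁻¹ := by group
      _ = g * ((g⁻¹ * b * g) * (g⁻¹ * a * g)) * g⁻¹ := by rw [h.comm _ (hm a ha) _ (hm b hb)]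
      _ = b * a := by group
  · have := h.cube _ (hm a ha)
    rwa [show g⁻¹ * a * g = g⁻¹ * a * g⁻¹⁻¹ by group, conj_pow, conj_eq_one_iff] at this
  · have h1 : g⁻¹ * a * g ≠ 1 := fun e => ha1 (by
      calc a = g * (g⁻¹ * a * g) * g⁻¹ := by group
        _ = 1 := by rw [e]; group)
    ext b
    rw [mem_cj, ← h.cent _ (hm a ha) h1, mem_centralizer_singleton_iff, mem_centralizer_singleton_iff]
    constructor
    · intro e
      calc g⁻¹ * b * g * (g⁻¹ * a * g) = g⁻¹ * (b * a) * g := by group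
        _ = g⁻¹ * a * g * (g⁻¹ * b * g) := by rw [e]; group
    · intro e
      calc b * a = g * (g⁻¹ * b * g * (g⁻¹ * a * g)) * g⁻¹ := by group
        _ = a * b := by rw [e]; group
  · obtain ⟨k, hk⟩ := h.cover a ha
    exact ⟨g * k, mem_cj.2 (by rwa [show g⁻¹ * (g * k * a * (g * k)⁻¹) * g = k * a * k⁻¹ by group])⟩

omit [Finite G] in
theorem Pt.conj (h : Pt S x) (g : G) : Pt (cj g S) (g * x * g⁻¹) :=
  ⟨TI_cj h.ti g, conj_mem_cj.2 h.mem, fun e => h.ne (conj_eq_one_iff.1 e)⟩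

theorem Pt.symm (h : Pt S x) : Pt S x⁻¹ := h.change (inv_mem h.mem) (inv_ne_one.2 h.ne)

/-- Products in a subgroup with a subgroup of index two. -/
theorem mul_mem_iff_of_half (hle : D ≤ P) (hD : 2 * Nat.card D = Nat.card P) {a b : G} (ha : a ∈ P)
    (hb : b ∈ P) : a * b ∈ D ↔ (a ∈ D ↔ b ∈ D) := by
  have h2 : (D.subgroupOf P).index = 2 := by
    have h1 := (D.subgroupOf P).card_mul_index
    rw [Nat.card_congr (subgroupOfEquivOfLe hle).toEquiv, ← hD, mul_comm 2] at h1
    exact Nat.eq_of_mul_eq_mul_left Nat.card_pos h1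
  exact Subgroup.mul_mem_iff_of_index_two h2 (a := ⟨a, ha⟩) (b := ⟨b, hb⟩)

theorem conj_mem_of_half (hle : D ≤ P) (hD : 2 * Nat.card D = Nat.card P) {a d : G} (ha : a ∈ P)
    (hd : d ∈ D) : a * d * a⁻¹ ∈ D := by
  rw [mul_mem_iff_of_half hle hD (mul_mem ha (hle hd)) (inv_mem ha),
    mul_mem_iff_of_half hle hD ha (hle hd), inv_mem_iff]
  simp [hd]

theorem le_normalizer_of_half (hle : D ≤ P) (hD : 2 * Nat.card D = Nat.card P) :
    P ≤ normalizer (D : Set G) := fun a ha => mem_normalizer_iff.2 fun d =>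
  ⟨fun hd => conj_mem_of_half hle hD ha hd, fun hd => by
    have := conj_mem_of_half hle hD (inv_mem ha) hd
    rwa [show a⁻¹ * (a * d * a⁻¹) * a⁻¹⁻¹ = d by group] at this⟩

theorem card_inf_of_half (hle' : P' ≤ S0) (hD : 2 * Nat.card P' = Nat.card S0) (hle : P ≤ S0)
    (hn : ¬ P ≤ P') : 2 * Nat.card (P ⊓ P' : Subgroup G) = Nat.card P := by
  obtain ⟨a, ha, ha'⟩ := SetLike.not_le_iff_exists.1 hn
  have h2 : (P'.subgroupOf P).index = 2 := index_eq_two_iff.2 ⟨⟨a, ha⟩, fun ⟨b, hb⟩ => by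
    have := mul_mem_iff_of_half hle' hD (hle hb) (hle ha)
    show Xor (b * a ∈ P') (b ∈ P')
    rw [xor_iff_not_iff]
    tauto⟩
  have h1 := (P'.subgroupOf P).card_mul_index
  rw [h2, Nat.card_congr ((Subgroup.inf_subgroupOf_left P' P ▸
    subgroupOfEquivOfLe (inf_le_left : P ⊓ P' ≤ P)).toEquiv)] at h1
  omega

/-- An element centralizing a subgroup of index two of an invariant group is central. -/
theorem Pt.central_of_half (h : Pt S x) (hP : Inv x P) (hle : D ≤ P)
    (hD : 2 * Nat.card D = Nat.card P) {y : G} (hy : y ∈ P) (hyD : ∀ d ∈ D, y * d = d * y) :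
    ∀ p ∈ P, y * p = p * y := by
  by_contra hnc
  push Not at hnc
  obtain ⟨p0, hp0, hp0y⟩ := hnc
  have hp0D : p0 ∉ D := fun hd => hp0y (hyD _ hd)
  have hout : ∀ a ∈ P, a ∉ D → y * a ≠ a * y := fun a ha haD e => hp0y (by
    have hd : p0 * a ∈ D := (mul_mem_iff_of_half hle hD hp0 ha).2 (iff_of_false hp0D haD)
    have e' : y * a⁻¹ = a⁻¹ * y := (Commute.inv_right e : Commute y a⁻¹)
    calc y * p0 = y * (p0 * a) * a⁻¹ := by group
      _ = p0 * a * (y * a⁻¹) := by rw [hyD _ hd]; group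
      _ = p0 * y := by rw [e']; group)
  have hx := hP.norm
  have hyD' : y ∈ D := by
    by_contra hc
    exact hout y hy hc rfl
  have x3 : x * x * x = 1 := by rw [← h.cube, pow_succ, sq]
  -- the images of `y`
  have hn1 := h.norm_eq_one hP hy
  have hn2 := h.symm.norm_eq_one hP.symm hy
  rw [inv_inv] at hn2
  set s := x * y * x⁻¹ with hs
  set t := x⁻¹ * y * x with ht
  have hsP : s ∈ P := conj_mem_of_norm hx hy
  have htP : t ∈ P := inv_conj_mem_of_norm hx hy
  have hst : s * t = t * s := mul_left_cancel (a := y) (by rw [← mul_assoc, hn1, ← mul_assoc, hn2])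
  have hyst : y = (s * t)⁻¹ := eq_inv_of_mul_eq_one_left (by rw [← mul_assoc, hn1])
  have hys : Commute y s := by
    rw [hyst]; exact ((Commute.refl s).mul_left (Commute.symm hst)).inv_left
  have hyt : Commute y t := by
    rw [hyst]; exact ((show Commute s t from hst).mul_left (Commute.refl t)).inv_left
  have hsD : s ∈ D := by
    by_contra hc; exact hout s hsP hc hys.eq
  have htD : t ∈ D := by
    by_contra hc; exact hout t htP hc hyt.eq
  -- the commutator
  set c := p0 * y * p0⁻¹ * y⁻¹ with hc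
  have hcD : c ∈ D := mul_mem (conj_mem_of_half hle hD hp0 hyD') (inv_mem hyD')
  have hmove : ∀ a ∈ P, a ∉ D → a * y * a⁻¹ = c * y := fun a ha haD => by
    have hd : p0⁻¹ * a ∈ D :=
      (mul_mem_iff_of_half hle hD (inv_mem hp0) ha).2 (iff_of_false (by simpa using hp0D) haD)
    calc a * y * a⁻¹ = p0 * ((p0⁻¹ * a) * y) * a⁻¹ := by group
      _ = p0 * (y * (p0⁻¹ * a)) * a⁻¹ := by rw [hyD _ hd]
      _ = c * y := by rw [hc]; group
  have hcc : ∀ d ∈ D, Commute c d := fun d hd => by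
    have h1 : Commute (p0 * y * p0⁻¹) d := by
      have h2 := conj_mem_of_half hle hD (inv_mem hp0) hd
      rw [inv_inv] at h2
      calc p0 * y * p0⁻¹ * d = p0 * (y * (p0⁻¹ * d * p0)) * p0⁻¹ := by group
        _ = p0 * ((p0⁻¹ * d * p0) * y) * p0⁻¹ := by rw [hyD _ h2]
        _ = d * (p0 * y * p0⁻¹) := by group
    exact h1.mul_left (Commute.inv_left (hyD d hd))
  -- an element of `D` outside of the image of `D`
  have hne : cj x D ≠ D := fun e => by
    have hinv : Inv x D := ⟨cj_eq_iff.1 e, fun hd => hP.cop (hd.trans (card_dvd_of_le hle))⟩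
    have h1 := h.card_mod hinv
    have h2 := h.card_mod hP
    omega
  obtain ⟨p, hp, hpx⟩ := SetLike.not_le_iff_exists.1
    (show ¬ D ≤ cj x D from fun hl => hne (eq_of_le_of_card_ge hl (by rw [card_cj])).symm)
  rw [mem_cj] at hpx
  have hps : p * s * p⁻¹ = (x * c * x⁻¹) * s := by
    calc p * s * p⁻¹ = x * ((x⁻¹ * p * x) * y * (x⁻¹ * p * x)⁻¹) * x⁻¹ := by rw [hs]; group
      _ = x * (c * y) * x⁻¹ := by rw [hmove _ (inv_conj_mem_of_norm hx (hle hp)) hpx]
      _ = (x * c * x⁻¹) * s := by rw [hs]; group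
  have hprod : y * (p * s * p⁻¹) * (p * t * p⁻¹) = 1 := by
    calc y * (p * s * p⁻¹) * (p * t * p⁻¹) = y * p * (s * t) * p⁻¹ := by group
      _ = p * (y * s * t) * p⁻¹ := by rw [hyD p hp]; group
      _ = 1 := by rw [hn1]; group
  have hyσc : y * (x * c * x⁻¹) = (x * c * x⁻¹) * y := by
    calc y * (x * c * x⁻¹) = x * (t * c) * x⁻¹ := by rw [ht]; group
      _ = x * (c * t) * x⁻¹ := by rw [(hcc t htD).eq]
      _ = (x * c * x⁻¹) * y := by rw [ht]; group
  have hc1 : c = 1 := by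
    by_cases hp' : x * p * x⁻¹ ∈ D
    · have hpt : p * t * p⁻¹ = t := by
        calc p * t * p⁻¹ = x⁻¹ * ((x * p * x⁻¹) * y * (x * p * x⁻¹)⁻¹) * x := by rw [ht]; group
          _ = t := by rw [← hyD _ hp', ht]; group
      refine (conj_eq_one_iff (a := x) (b := c)).1 ?_
      calc x * c * x⁻¹ = (x * c * x⁻¹) * (y * s * t) := by rw [hn1, mul_one]
        _ = (x * c * x⁻¹ * y) * s * t := by group
        _ = y * (p * s * p⁻¹) * (p * t * p⁻¹) := by rw [← hyσc, hps, hpt]; group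
        _ = 1 := hprod
    · have hpt : p * t * p⁻¹ = (x⁻¹ * c * x) * t := by
        calc p * t * p⁻¹ = x⁻¹ * ((x * p * x⁻¹) * y * (x * p * x⁻¹)⁻¹) * x := by rw [ht]; group
          _ = x⁻¹ * (c * y) * x := by rw [hmove _ (conj_mem_of_norm hx (hle hp)) hp']
          _ = (x⁻¹ * c * x) * t := by rw [ht]; group
      have hst' : s = x⁻¹ * t * x := by
        calc s = x * y * x⁻¹ := hs
          _ = (x * x * x)⁻¹ * (x * y * x⁻¹) * (x * x * x) := by rw [x3]; group
          _ = x⁻¹ * t * x := by rw [ht]; group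
      have hτs : s * (x⁻¹ * c * x) = (x⁻¹ * c * x) * s := by
        rw [hst']
        calc x⁻¹ * t * x * (x⁻¹ * c * x) = x⁻¹ * (t * c) * x := by group
          _ = x⁻¹ * (c * t) * x := by rw [(hcc t htD).eq]
          _ = x⁻¹ * c * x * (x⁻¹ * t * x) := by group
      have hyτc : y * (x⁻¹ * c * x) = (x⁻¹ * c * x) * y := by
        calc y * (x⁻¹ * c * x) = x⁻¹ * (s * c) * x := by rw [hs]; group
          _ = x⁻¹ * (c * s) * x := by rw [(hcc s hsD).eq]
          _ = (x⁻¹ * c * x) * y := by rw [hs]; group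
      have h2 := h.norm_eq_one hP (hle hcD)
      have h3 : (x * c * x⁻¹) * (x⁻¹ * c * x) = 1 := by
        calc (x * c * x⁻¹) * (x⁻¹ * c * x)
            = (x * c * x⁻¹) * (x⁻¹ * c * x) * (y * s * t) := by rw [hn1, mul_one]
          _ = (x * c * x⁻¹) * (((x⁻¹ * c * x) * y) * s * t) := by group
          _ = (x * c * x⁻¹) * (y * ((x⁻¹ * c * x) * s) * t) := by rw [← hyτc]; group
          _ = (x * c * x⁻¹) * (y * (s * (x⁻¹ * c * x)) * t) := by rw [hτs]
          _ = ((x * c * x⁻¹) * y) * s * ((x⁻¹ * c * x) * t) := by group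
          _ = y * (p * s * p⁻¹) * (p * t * p⁻¹) := by rw [← hyσc, hps, hpt]; group
          _ = 1 := hprod
      rwa [mul_assoc, h3, mul_one] at h2
  refine hp0y ?_
  rw [hc, mul_inv_eq_one, mul_inv_eq_iff_eq_mul] at hc1
  exact hc1.symm

/-- The elements of order three of the normalizer are conjugate to `x` or its inverse. -/
theorem Loc.conj_of_cube (h : Pt S x) {H : Subgroup G} (L : Loc x H N) {t : G} (ht : t ∈ H)
    (ht3 : t ^ 3 = 1) (ht1 : t ≠ 1) : ∃ a ∈ N, t = a * x * a⁻¹ ∨ t = a * x⁻¹ * a⁻¹ := by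
  set N' := N.subgroupOf H
  have hN' : N'.Normal := Subgroup.normal_subgroupOf_of_le_normalizer L.normal
  set f := QuotientGroup.mk' N'
  have hQ : Nat.card (H ⧸ N') = 3 ∨ Nat.card (H ⧸ N') = 6 := by
    have h1 := card_eq_card_quotient_mul_card_subgroup N'
    rw [Nat.card_congr (subgroupOfEquivOfLe L.le).toEquiv] at h1
    have := Nat.card_pos (α := N)
    rcases L.card with e | e <;> rw [e] at h1
    · exact Or.inl (Nat.eq_of_mul_eq_mul_right this h1).symm
    · exact Or.inr (Nat.eq_of_mul_eq_mul_right this h1).symm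
  have hker : ∀ a : H, f a = 1 ↔ (a : G) ∈ N := fun a => by
    rw [QuotientGroup.mk'_apply, QuotientGroup.eq_one_iff]; rfl
  have hne : ∀ g : H, (g : G) ^ 3 = 1 → (g : G) ≠ 1 → f g ≠ 1 := fun g hg hg1 e => by
    have : Fact (Nat.Prime 3) := ⟨Nat.prime_three⟩
    exact L.inv.not_three_dvd_orderOf ((hker g).1 e) (by rw [orderOf_eq_prime hg hg1])
  set x0 : H := ⟨x, L.xH⟩
  set t0 : H := ⟨t, ht⟩
  have hfx3 : f x0 ^ 3 = 1 := by rw [← map_pow, show x0 ^ 3 = 1 from Subtype.ext h.cube, map_one]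
  have hft3 : f t0 ^ 3 = 1 := by rw [← map_pow, show t0 ^ 3 = 1 from Subtype.ext ht3, map_one]
  have : Fact (Nat.Prime 3) := ⟨Nat.prime_three⟩
  have hX : Nat.card (zpowers (f x0)) = 3 := by
    rw [Nat.card_zpowers, orderOf_eq_prime hfx3 (hne x0 h.cube h.ne)]
  have hmem : f t0 ∈ zpowers (f x0) := by
    rcases hQ with e | e
    · rw [eq_top_of_card_eq (zpowers (f x0)) (hX.trans e.symm)]; exact mem_top _
    · have h2 : (zpowers (f x0)).index = 2 := by
        have := (zpowers (f x0)).card_mul_index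
        rw [hX, e] at this; omega
      have := Subgroup.sq_mem_of_index_two h2 (f t0)
      have h4 : f t0 = (f t0 ^ 2) ^ 2 := by
        rw [← pow_mul, pow_succ (f t0) 3, hft3, one_mul]
      rw [h4]; exact pow_mem this 2
  obtain ⟨i, hi⟩ := mem_zpowers_iff.1 hmem
  rw [← orderOf_eq_prime hfx3 (hne x0 h.cube h.ne)] at hX
  have hi' : f t0 = f x0 ^ (i % 3) := by
    rw [← hi]
    conv_lhs => rw [← Int.emod_add_mul_ediv i 3, zpow_add, zpow_mul,
      show f x0 ^ (3 : ℤ) = 1 by rw [← hfx3]; norm_cast, one_zpow, mul_one]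
  have key : ∀ y0 : H, f t0 = f y0 → Pt S (y0 : G) → Inv (y0 : G) N →
      ∃ a ∈ N, t = a * y0 * a⁻¹ := fun y0 e hy hyN => by
    have hn : t * (y0 : G)⁻¹ ∈ N := (hker (t0 * y0⁻¹)).1 (by rw [map_mul, map_inv, e, mul_inv_cancel])
    obtain ⟨a, ha, ea⟩ := hy.exists_conj hyN hn
    exact ⟨a, ha, by rw [ea]; group⟩
  rcases (show i % 3 = 0 ∨ i % 3 = 1 ∨ i % 3 = 2 by omega) with e | e | e <;> rw [e] at hi'
  · exact absurd (by simpa using hi') (hne t0 ht3 ht1)
  · obtain ⟨a, ha, ea⟩ := key x0 (by simpa using hi') h L.inv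
    exact ⟨a, ha, Or.inl ea⟩
  · obtain ⟨a, ha, ea⟩ := key x0⁻¹ (by
      rw [hi', map_inv, eq_inv_iff_mul_eq_one, ← zpow_add_one]
      exact (show f x0 ^ (3 : ℤ) = 1 by rw [← hfx3]; norm_cast)) h.symm L.inv.symm
    exact ⟨a, ha, Or.inr ea⟩

/-- The data of a maximal invariant two-subgroup. -/
structure TwoLoc (x : G) (P N : Subgroup G) : Prop where
  inv : Inv x P
  two : IsPGroup 2 P
  loc : Loc x (normalizer (P : Set G)) N
  sub : ∀ Y : Subgroup G, Y ≤ N → IsPGroup 2 Y → Y ≤ P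

theorem isPGroup_zpowers {p : ℕ} {T : Subgroup G} (hT : IsPGroup p T) {s : G} (hs : s ∈ T) :
    IsPGroup p (zpowers s) := hT.to_le (zpowers_le.2 hs)

/-- A two-element of the normalizer outside of the nilpotent part and its image have no common
centralized element of `P`. -/
theorem TwoLoc.no_common (h : Pt S x) (L : TwoLoc x P N) {s w : G}
    (hs : s ∈ normalizer (P : Set G)) (hsN : s ∉ N) (hs2 : IsPGroup 2 (zpowers s)) (hw : w ∈ P)
    (hws : s * w = w * s) (hws' : (x * s * x⁻¹) * w = w * (x * s * x⁻¹)) : w = 1 := by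
  set H := normalizer (P : Set G) with hH
  set s' := x * s * x⁻¹ with hs'
  have hs'H : s' ∈ H := mul_mem (mul_mem L.inv.norm hs) (inv_mem L.inv.norm)
  set N' := N.subgroupOf H
  have hN' : N'.Normal := Subgroup.normal_subgroupOf_of_le_normalizer L.loc.normal
  set f := QuotientGroup.mk' N'
  have hker : ∀ a : H, f a = 1 ↔ (a : G) ∈ N := fun a => by
    rw [QuotientGroup.mk'_apply, QuotientGroup.eq_one_iff]; rfl
  set s0 : H := ⟨s, hs⟩
  set x0 : H := ⟨x, L.inv.norm⟩
  have hfs : f s0 ≠ 1 := fun e => hsN ((hker s0).1 e)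
  have hfs' : f ⟨s', hs'H⟩ = f x0 * f s0 * (f x0)⁻¹ := by
    rw [← map_inv, ← map_mul, ← map_mul]; rfl
  have hfs1 : f ⟨s', hs'H⟩ ≠ 1 := by
    rw [hfs']; exact fun e => hfs (conj_eq_one_iff.1 e)
  have hdiff : f ⟨s', hs'H⟩ ≠ f s0 := fun e => by
    have hn : s * x * s⁻¹ * x⁻¹ ∈ N := (hker (s0 * x0 * s0⁻¹ * x0⁻¹)).1 (by
      simp only [map_mul, map_inv]
      rw [hfs', mul_inv_eq_iff_eq_mul] at e
      rw [← e]; group)
    obtain ⟨a, ha, ea⟩ := h.exists_conj L.loc.inv hn
    have hmem : a⁻¹ * s ∈ S := h.mem_of_commute (by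
      calc a⁻¹ * s * x = a⁻¹ * ((s * x * s⁻¹ * x⁻¹) * x) * s := by group
        _ = a⁻¹ * (a * x * a⁻¹) * s := by rw [ea]
        _ = x * (a⁻¹ * s) := by group)
    have h3 := h.ti.cube _ hmem
    have haH : a ∈ H := L.loc.le ha
    have hf3 : f s0 ^ 3 = 1 := by
      have : f (⟨a, haH⟩⁻¹ * s0) ^ 3 = 1 := by
        rw [← map_pow, show ((⟨a, haH⟩ : H)⁻¹ * s0) ^ 3 = 1 from Subtype.ext (by simpa [s0] using h3),
          map_one]
      rwa [map_mul, map_inv, (hker ⟨a, haH⟩).2 ha, inv_one, one_mul] at this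
    obtain ⟨k, hk⟩ := hs2 ⟨s, mem_zpowers s⟩
    have h2 : f s0 ^ 2 ^ k = 1 := by
      rw [← map_pow, show s0 ^ 2 ^ k = 1 from Subtype.ext (by simpa [s0] using congrArg Subtype.val hk),
        map_one]
    have := Nat.eq_one_of_dvd_coprimes (Nat.Coprime.pow_right k (by norm_num : Nat.Coprime 3 2))
      (orderOf_dvd_of_pow_eq_one hf3) (orderOf_dvd_of_pow_eq_one h2)
    exact hfs (orderOf_eq_one_iff.1 this)
  -- the centralizer of `w`
  set C := (centralizer ({w} : Set G)).subgroupOf H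
  have hsC : s0 ∈ C := mem_centralizer_singleton_iff.2 hws
  have hs'C : (⟨s', hs'H⟩ : H) ∈ C := mem_centralizer_singleton_iff.2 hws'
  have h3 : 3 ∣ Nat.card C := by
    refine dvd_trans ?_ (card_map_dvd C f)
    have hd := card_subgroup_dvd_card (C.map f)
    have hge : 3 ≤ Nat.card (C.map f) := by
      let g : Fin 3 → C.map f := ![1, ⟨f s0, ⟨_, hsC, rfl⟩⟩, ⟨f ⟨s', hs'H⟩, ⟨_, hs'C, rfl⟩⟩]
      have hg : Function.Injective g := by
        intro i j e
        have e' := congrArg Subtype.val e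
        fin_cases i <;> fin_cases j <;> simp [g] at e' ⊢ <;>
          first | exact hfs e' | exact hfs e'.symm | exact hfs1 e' | exact hfs1 e'.symm |
            exact hdiff e' | exact hdiff e'.symm
      have := Nat.card_le_card_of_injective g hg
      rwa [Nat.card_fin] at this
    have h1 := card_eq_card_quotient_mul_card_subgroup N'
    rw [Nat.card_congr (subgroupOfEquivOfLe L.loc.le).toEquiv] at h1
    have hN0 := Nat.card_pos (α := N)
    have hQ : Nat.card (H ⧸ N') ∣ 6 := by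
      rcases L.loc.card with e | e <;> rw [e] at h1
      · rw [← Nat.eq_of_mul_eq_mul_right hN0 h1]; norm_num
      · rw [← Nat.eq_of_mul_eq_mul_right hN0 h1]
    have hd6 := hd.trans hQ
    have hle6 := Nat.le_of_dvd (by norm_num) hd6
    generalize Nat.card (C.map f) = d at hge hd6 hle6
    interval_cases d <;> omega
  have : Fact (Nat.Prime 3) := ⟨Nat.prime_three⟩
  obtain ⟨t, ht⟩ := exists_prime_orderOf_dvd_card' 3 h3
  have ht3 : ((t : H) : G) ^ 3 = 1 := by
    rw [← ht, ← Subgroup.orderOf_coe, ← Subgroup.orderOf_coe]; exact pow_orderOf_eq_one _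
  have ht1 : ((t : H) : G) ≠ 1 := fun e => by
    rw [← Subgroup.orderOf_coe, ← Subgroup.orderOf_coe, e, orderOf_one] at ht; omega
  obtain ⟨a, ha, hta⟩ := L.loc.conj_of_cube h (t : H).2 ht3 ht1
  have hwt : ((t : H) : G) * w = w * ((t : H) : G) := mem_centralizer_singleton_iff.1 t.2
  have hwa : a⁻¹ * w * a ∈ P := inv_conj_mem_of_norm (L.loc.le ha) hw
  suffices a⁻¹ * w * a = 1 by
    calc w = a * (a⁻¹ * w * a) * a⁻¹ := by group
      _ = 1 := by rw [this]; group
  rcases hta with e | e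
  · refine h.fix L.inv hwa ?_
    rw [e] at hwt
    calc a⁻¹ * w * a * x = a⁻¹ * (w * (a * x * a⁻¹)) * a := by group
      _ = x * (a⁻¹ * w * a) := by rw [← hwt]; group
  · refine h.symm.fix L.inv.symm hwa ?_
    rw [e] at hwt
    calc a⁻¹ * w * a * x⁻¹ = a⁻¹ * (w * (a * x⁻¹ * a⁻¹)) * a := by group
      _ = x⁻¹ * (a⁻¹ * w * a) := by rw [← hwt]; group

/-- Two invariant groups of index two in a common two-group have order four. -/
theorem TwoLoc.four_of_pair (h : Pt S x) (h' : Pt S' x') (L : TwoLoc x P N) (hne : P ≠ ⊥)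
    (hP' : Inv x' P') (hS0 : IsPGroup 2 S0) (hle : P ≤ S0) (hle' : P' ≤ S0)
    (hc : 2 * Nat.card P = Nat.card S0) (hc' : 2 * Nat.card P' = Nat.card S0) (hPP : P ≠ P') :
    Nat.card P = 4 := by
  have hnPP : ¬ P ≤ P' := fun hl => hPP (eq_of_le_of_card_ge hl (by omega))
  have hnPP' : ¬ P' ≤ P := fun hl => hPP (eq_of_le_of_card_ge hl (by omega)).symm
  have hS0N : S0 ≤ normalizer (P : Set G) := le_normalizer_of_half hle hc
  have hDc : 2 * Nat.card (P ⊓ P' : Subgroup G) = Nat.card P := card_inf_of_half hle' hc' hle hnPP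
  have hDc' : 2 * Nat.card (P ⊓ P' : Subgroup G) = Nat.card P' := by omega
  obtain ⟨b, hb, hbP⟩ := SetLike.not_le_iff_exists.1 hnPP'
  have hsN : ∀ s ∈ S0, s ∉ P → s ∉ N := fun s hs hsP hN =>
    hsP (L.sub _ (zpowers_le.2 hN) (isPGroup_zpowers hS0 hs) (mem_zpowers s))
  set Z := P ⊓ centralizer (P : Set G) with hZ
  -- the central elements inside the intersection are central in `S0`
  have hW : ∀ w ∈ Z, w ∈ P' → ∀ a ∈ S0, a * w = w * a := by
    intro w hw hwP' a ha
    have hwP : ∀ p ∈ P, p * w = w * p := fun p hp => mem_centralizer_iff.1 hw.2 p hp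
    have hwb : ∀ p ∈ P', w * p = p * w := h'.central_of_half hP' inf_le_right hDc' hwP'
      fun d hd => (hwP d hd.1).symm
    by_cases haP : a ∈ P
    · exact hwP a haP
    have hab : a * b⁻¹ ∈ P :=
      (mul_mem_iff_of_half hle hc ha (inv_mem (hle' hb))).2 (iff_of_false haP (by simpa using hbP))
    calc a * w = (a * b⁻¹) * (b * w) := by group
      _ = (a * b⁻¹) * w * b := by rw [← hwb b hb]; group
      _ = w * (a * b⁻¹) * b := by rw [hwP _ hab]
      _ = w * a := by group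
  have hkey : ∀ w ∈ Z, w ∈ P' → x⁻¹ * w * x ∈ P' → w = 1 := by
    intro w hw hwP' hwx
    obtain ⟨s, hs, hsP⟩ : ∃ s ∈ S0, s ∉ P := ⟨b, hle' hb, hbP⟩
    refine L.no_common h (hS0N hs) (hsN s hs hsP) (isPGroup_zpowers hS0 hs) hw.1 (hW w hw hwP' s hs) ?_
    have hwZ : x⁻¹ * w * x ∈ Z := by
      refine ⟨inv_conj_mem_of_norm L.inv.norm hw.1, mem_centralizer_iff.2 fun p hp => ?_⟩
      have := mem_centralizer_iff.1 hw.2 (x * p * x⁻¹) (conj_mem_of_norm L.inv.norm hp)
      calc p * (x⁻¹ * w * x) = x⁻¹ * ((x * p * x⁻¹) * w) * x := by group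
        _ = x⁻¹ * (w * (x * p * x⁻¹)) * x := by rw [this]
        _ = x⁻¹ * w * x * p := by group
    have := hW _ hwZ hwx s hs
    calc x * s * x⁻¹ * w = x * (s * (x⁻¹ * w * x)) * x⁻¹ := by group
      _ = x * ((x⁻¹ * w * x) * s) * x⁻¹ := by rw [this]
      _ = w * (x * s * x⁻¹) := by group
  have hZinv : Inv x Z := by
    refine ⟨mem_normalizer_iff.2 fun a => ?_, fun hd => L.inv.cop (hd.trans (card_dvd_of_le inf_le_left))⟩
    have hx := L.inv.norm
    simp only [hZ, mem_inf, mem_centralizer_iff, SetLike.mem_coe]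
    refine and_congr (mem_normalizer_iff.1 hx a) ⟨fun hc p hp => ?_, fun hc p hp => ?_⟩
    · have := hc (x⁻¹ * p * x) (inv_conj_mem_of_norm hx hp)
      calc p * (x * a * x⁻¹) = x * ((x⁻¹ * p * x) * a) * x⁻¹ := by group
        _ = x * a * x⁻¹ * p := by rw [this]; group
    · have := hc (x * p * x⁻¹) (conj_mem_of_norm hx hp)
      calc p * a = x⁻¹ * ((x * p * x⁻¹) * (x * a * x⁻¹)) * x := by group
        _ = a * p := by rw [this]; group
  have : Fact (Nat.Prime 2) := ⟨Nat.prime_two⟩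
  have hnil : Group.IsNilpotent P := L.two.isNilpotent
  have : Nontrivial P := (nontrivial_iff_ne_bot P).2 hne
  have hmeet : ∀ K : Subgroup G, K ≤ P → P ≤ normalizer (K : Set G) → K ≠ ⊥ →
      ∃ z ∈ K, z ∈ Z ∧ z ≠ 1 := by
    intro K hK hKn hK1
    have : (K.subgroupOf P).Normal := Subgroup.normal_subgroupOf_of_le_normalizer hKn
    have hK1' : K.subgroupOf P ≠ ⊥ := fun e => hK1 (by
      rw [subgroupOf_eq_bot, disjoint_iff, inf_eq_left.2 hK] at e
      exact e)
    obtain ⟨⟨z, hzP⟩, hz, hz1⟩ := (Subgroup.bot_or_exists_ne_one _).resolve_left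
      (Core.inf_center_ne_bot hK1')
    refine ⟨z, hz.1, ⟨hzP, mem_centralizer_iff.2 fun p hp => ?_⟩, fun e => hz1 (Subtype.ext e)⟩
    exact congrArg Subtype.val (mem_center_iff.1 hz.2 ⟨p, hp⟩)
  obtain ⟨z, -, hz, hz1⟩ := hmeet P le_rfl le_normalizer hne
  have hZP' : ¬ Z ≤ P' := fun hl => hz1 (hkey z hz (hl hz) (hl (inv_conj_mem_of_norm hZinv.norm hz)))
  have hWc : 2 * Nat.card (Z ⊓ P' : Subgroup G) = Nat.card Z :=
    card_inf_of_half hle' hc' (inf_le_left.trans hle) hZP'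
  set W := Z ⊓ P'
  have hW2 : Nat.card W ≤ 2 := by
    have hcW : 2 * Nat.card (cj x W) = Nat.card Z := by rw [card_cj]; exact hWc
    have hle2 : cj x W ≤ Z := fun a ha => by
      have := conj_mem_of_norm hZinv.norm (mem_cj.1 ha).1
      rwa [show x * (x⁻¹ * a * x) * x⁻¹ = a by group] at this
    have hout : ∀ w ∈ W, w ≠ 1 → w ∉ cj x W := fun w hw hw1 hm =>
      hw1 (hkey w hw.1 hw.2 (mem_cj.1 hm).2)
    by_contra hgt
    obtain ⟨⟨w, hw⟩, hw1⟩ : ∃ w : W, w ≠ 1 := by
      have : Nontrivial W := Finite.one_lt_card_iff_nontrivial.1 (by omega)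
      exact exists_ne 1
    have hw1' : w ≠ 1 := fun e => hw1 (Subtype.ext e)
    have hall : ∀ v : W, v = 1 ∨ v = ⟨w⁻¹, inv_mem hw⟩ := fun ⟨v, hv⟩ => by
      by_cases hv1 : v = 1
      · exact Or.inl (Subtype.ext hv1)
      right
      have hmul : w * v ∈ cj x W := (mul_mem_iff_of_half hle2 hcW hw.1 hv.1).2
        (iff_of_false (hout w hw hw1') (hout v hv hv1))
      by_contra hne'
      exact hout (w * v) (mul_mem hw hv)
        (fun e => hne' (Subtype.ext (eq_inv_of_mul_eq_one_right e))) hmul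
    classical
    let g : W → Bool := fun v => decide (v.1 = 1)
    have hg : Function.Injective g := by
      intro v v' e
      have e' : (v.1 = 1) ↔ (v'.1 = 1) := by simpa [g] using e
      rcases hall v with rfl | rfl <;> rcases hall v' with rfl | rfl
      · rfl
      · exact absurd (e'.1 rfl) (by simpa using hw1')
      · exact absurd (e'.2 rfl) (by simpa using hw1')
      · rfl
    have h2 := Nat.card_le_card_of_injective g hg
    rw [Nat.card_eq_fintype_card (α := Bool), Fintype.card_bool] at h2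
    omega
  have hZ4 : Nat.card Z = 4 := by
    have h1 := h.card_mod hZinv
    have := Nat.card_pos (α := W)
    omega
  -- the group is abelian
  suffices hab : P ≤ centralizer (P : Set G) by
    rwa [hZ, inf_eq_left.2 hab] at hZ4
  by_contra hab
  set K := (commutator P).map P.subtype
  have hK : K ≠ ⊥ := fun e => hab (by
    have e' : commutator P = ⊥ := (map_eq_bot_iff_of_injective _ P.subtype_injective).1 e
    intro a ha
    rw [mem_centralizer_iff]
    intro p hp
    have hc1 : ⁅(⟨p, hp⟩ : P), ⟨a, ha⟩⁆ ∈ commutator P :=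
      commutator_mem_commutator (mem_top _) (mem_top _)
    rw [e', mem_bot, commutatorElement_eq_one_iff_mul_comm] at hc1
    exact congrArg Subtype.val hc1)
  have hKn : normalizer (P : Set G) ≤ normalizer (K : Set G) := fun g hg => by
    rw [← cj_eq_iff]
    refine eq_of_le_of_card_ge ?_ (by rw [card_cj])
    simp only [cj, K, map_map, _root_.commutator_eq_closure, MonoidHom.map_closure]
    refine closure_mono ?_
    rintro _ ⟨_, ⟨c, ⟨a, b, rfl⟩, rfl⟩, rfl⟩
    refine ⟨⁅(⟨g * a * g⁻¹, (mem_normalizer_iff.1 hg a).1 a.2⟩ : P),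
      ⟨g * b * g⁻¹, (mem_normalizer_iff.1 hg b).1 b.2⟩⁆, ⟨_, _, rfl⟩, ?_⟩
    simp [commutatorElement_def, MulAut.conj_apply, mul_assoc]
  have hKP : K ≤ P := map_subtype_le _
  have hKD : K ≤ P' := by
    rintro _ ⟨c, hc1, rfl⟩
    suffices commutator P ≤ P'.subgroupOf P from this hc1
    rw [_root_.commutator_eq_closure, closure_le]
    rintro _ ⟨a, b, rfl⟩
    have hm : ∀ u v : P, ((u * v : P) : G) ∈ P' ↔ ((u : G) ∈ P' ↔ (v : G) ∈ P') := fun u v =>
      mul_mem_iff_of_half hle' hc' (hle u.2) (hle v.2)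
    show ((⁅a, b⁆ : P) : G) ∈ P'
    rw [commutatorElement_def, hm, hm, hm]
    simp only [InvMemClass.coe_inv, inv_mem_iff]
    tauto
  obtain ⟨v, hvK, hvZ, hv1⟩ := hmeet K hKP (le_normalizer.trans hKn) hK
  exact hv1 (hkey v hvZ (hKD hvK) (hKD (inv_conj_mem_of_norm (hKn L.inv.norm) hvK)))

/-- A maximal invariant two-subgroup. -/
structure MaxTwo (x : G) (P : Subgroup G) : Prop where
  inv : Inv x P
  two : IsPGroup 2 P
  max : ∀ W : Subgroup G, Inv x W → IsPGroup 2 W → P ≤ W → W = P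

theorem MaxTwo.exists_loc (h : Pt S x) (hM : MaxTwo x P) (hne : P ≠ ⊥) :
    ∃ N, TwoLoc x P N := by
  have : Fact (Nat.Prime 2) := ⟨Nat.prime_two⟩
  rcases h.local_structure hM.inv hne with ⟨N, L⟩ | hF
  · refine ⟨N, hM.inv, hM.two, L, fun Y hY hY2 => ?_⟩
    have hPN : P ≤ N := L.absorb P hM.inv le_normalizer
    have hinv : Inv x (part 2 N) := ⟨normalizer_le_normalizer_part L.nil L.inv.norm,
      fun hd => L.inv.cop (hd.trans (card_dvd_of_le (part_le 2 N)))⟩
    rw [← hM.max _ hinv part_isPGroup (le_part L.nil hM.two hPN)]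
    exact le_part L.nil hY2 hY
  · obtain ⟨W, hW, hW2, hle, hne'⟩ := h.five_extend hM.inv hne hM.two hF
    exact absurd (hM.max W hW hW2 hle).symm hne'

theorem TwoLoc.card_dvd (L : TwoLoc x P N) {Y : Subgroup G} (hY : IsPGroup 2 Y)
    (hle : Y ≤ normalizer (P : Set G)) : Nat.card Y ∣ 2 * Nat.card P := by
  have : Fact (Nat.Prime 2) := ⟨Nat.prime_two⟩
  obtain ⟨k, hk⟩ := hY.exists_card_eq
  have hd : Nat.card Y ∣ 6 * Nat.card N := (card_dvd_of_le hle).trans
    (by rcases L.loc.card with e | e <;> rw [e] <;> exact ⟨2, by ring⟩ <;> exact dvd_rfl)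
  have hpart : part 2 N = P := le_antisymm (L.sub _ (part_le 2 N) part_isPGroup)
    (le_part L.loc.nil L.two (L.loc.absorb P L.inv le_normalizer))
  have hP : Nat.card P = 2 ^ (Nat.card N).factorization 2 := by rw [← card_part 2 N, hpart]
  rw [hk] at hd ⊢
  have h0 : 6 * Nat.card N ≠ 0 := by have := Nat.card_pos (α := N); omega
  have h1 := (Nat.Prime.pow_dvd_iff_le_factorization Nat.prime_two h0).1 hd
  rw [Nat.factorization_mul (by norm_num) Nat.card_pos.ne', Finsupp.add_apply,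
    show (6 : ℕ).factorization 2 = 1 by
      rw [show (6 : ℕ) = 2 * 3 from rfl, Nat.factorization_mul (by norm_num) (by norm_num),
        Finsupp.add_apply, Nat.Prime.factorization_self Nat.prime_two,
        Nat.factorization_eq_zero_of_not_dvd (by norm_num)]] at h1
  rw [hP, ← pow_succ']
  exact pow_dvd_pow 2 (by omega)

/-- The order of a maximal invariant two-subgroup. -/
theorem MaxTwo.card_cases (h : Pt S x) (hM : MaxTwo x P) (hne : P ≠ ⊥) {A : ℕ}
    (hA : ∀ T : Sylow 2 G, Nat.card T = A) :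
    Nat.card P = A ∨ 2 * Nat.card P = A ∨ Nat.card P = 4 := by
  have : Fact (Nat.Prime 2) := ⟨Nat.prime_two⟩
  obtain ⟨N, L⟩ := hM.exists_loc h hne
  obtain ⟨T, hT⟩ := hM.two.exists_le_sylow
  rcases eq_or_lt_of_le hT with e | hlt
  · exact Or.inl (by rw [e]; exact hA T)
  have hU := Fusion.lt_inf_normalizer_of_isPGroup T.2 hlt
  set U := (T : Subgroup G) ⊓ normalizer (P : Set G) with hUdef
  have hUp : IsPGroup 2 U := T.2.to_le inf_le_left
  have hUc : 2 * Nat.card P = Nat.card U := by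
    obtain ⟨m, hm⟩ := card_dvd_of_le hU.le
    have hd := L.card_dvd hUp inf_le_right
    rw [hm, mul_comm 2] at hd
    have hm2 : m ≤ 2 := Nat.le_of_dvd (by norm_num) (Nat.dvd_of_mul_dvd_mul_left Nat.card_pos hd)
    interval_cases m
    · simp [Nat.card_pos.ne'] at hm
    · exact absurd (eq_of_le_of_card_ge hU.le (by omega)) hU.ne
    · omega
  rcases eq_or_lt_of_le (inf_le_left : U ≤ (T : Subgroup G)) with e | hlt'
  · exact Or.inr (Or.inl (hUc.trans ((congrArg (fun K : Subgroup G => Nat.card K) e).trans (hA T))))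
  obtain ⟨g, hg, hgU⟩ := SetLike.exists_of_lt (Fusion.lt_inf_normalizer_of_isPGroup T.2 hlt')
  refine Or.inr (Or.inr (L.four_of_pair h (h.conj g) hne (hM.inv.cj g) hUp hU.le ?_ hUc
    (by rw [card_cj]; exact hUc) fun e => hgU ⟨hg.1, cj_eq_iff.1 e.symm⟩))
  intro a ha
  have := hU.le (mem_cj.1 ha)
  have h2 := conj_mem_of_norm hg.2 this
  rwa [show g * (g⁻¹ * a * g) * g⁻¹ = a by group] at h2

/-- A group of order four containing all two-elements of its centralizer. -/
structure Kl (P : Subgroup G) : Prop where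
  card : Nat.card P = 4
  cent : ∀ s : G, (∃ k : ℕ, s ^ 2 ^ k = 1) → (∀ p ∈ P, p * s = s * p) → s ∈ P

theorem MaxTwo.kl (h : Pt S x) (hM : MaxTwo x P) (h4 : Nat.card P = 4) : Kl P := by
  refine ⟨h4, fun s ⟨k, hk⟩ hs => ?_⟩
  have : Fact (Nat.Prime 2) := ⟨Nat.prime_two⟩
  have hne : P ≠ ⊥ := fun e => by rw [e, card_bot] at h4; omega
  obtain ⟨N, L⟩ := hM.exists_loc h hne
  have hsH : s ∈ normalizer (P : Set G) := mem_normalizer_iff.2 fun a => by
    constructor
    · intro ha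
      rwa [← hs a ha, mul_inv_cancel_right]
    · intro ha
      have := hs _ ha
      rw [inv_mul_cancel_right] at this
      rwa [mul_left_cancel this]
  have hz : IsPGroup 2 (zpowers s) := fun ⟨y, hy⟩ => by
    obtain ⟨i, rfl⟩ := mem_zpowers_iff.1 hy
    refine ⟨k, Subtype.ext ?_⟩
    show (s ^ i) ^ 2 ^ k = 1
    rw [← zpow_natCast, ← zpow_mul, mul_comm, zpow_mul, zpow_natCast, hk, one_zpow]
  by_cases hsN : s ∈ N
  · exact L.sub _ (zpowers_le.2 hsN) hz (mem_zpowers s)
  exfalso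
  obtain ⟨w, hw, hw1⟩ := (Subgroup.bot_or_exists_ne_one P).resolve_left hne
  refine hw1 (L.no_common h hsH hsN hz hw (hs w hw).symm ?_)
  have := hs _ (inv_conj_mem_of_norm hM.inv.norm hw)
  calc x * s * x⁻¹ * w = x * (s * (x⁻¹ * w * x)) * x⁻¹ := by group
    _ = x * ((x⁻¹ * w * x) * s) * x⁻¹ := by rw [this]
    _ = w * (x * s * x⁻¹) := by group

theorem Kl.cj (hP : Kl P) (g : G) : Kl (cj g P) := by
  refine ⟨by rw [card_cj, hP.card], fun s ⟨k, hk⟩ hs => mem_cj.2 (hP.cent _ ⟨k, ?_⟩ fun p hp => ?_)⟩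
  · rw [show g⁻¹ * s * g = g⁻¹ * s * g⁻¹⁻¹ by group, conj_pow, hk, mul_one, mul_inv_cancel]
  · have := hs _ (conj_mem_cj.2 hp)
    calc p * (g⁻¹ * s * g) = g⁻¹ * (g * p * g⁻¹ * s) * g := by group
      _ = g⁻¹ * s * g * p := by rw [this]; group

theorem Kl.isPGroup (hP : Kl P) : IsPGroup 2 P := IsPGroup.of_card (n := 2) hP.card

theorem card_ge_three {K : Subgroup G} {a b : G} (ha : a ∈ K) (hb : b ∈ K) (ha1 : a ≠ 1)
    (hb1 : b ≠ 1) (hab : a ≠ b) : 3 ≤ Nat.card K := by
  let g : Fin 3 → K := ![1, ⟨a, ha⟩, ⟨b, hb⟩]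
  have hg : Function.Injective g := by
    intro i j e
    have e' := congrArg Subtype.val e
    fin_cases i <;> fin_cases j <;> simp [g] at e' ⊢ <;>
      first | exact ha1 e' | exact ha1 e'.symm | exact hb1 e' | exact hb1 e'.symm |
        exact hab e' | exact hab e'.symm
  have := Nat.card_le_card_of_injective g hg
  rwa [Nat.card_fin] at this

/-- Among four such groups two are conjugate. -/
theorem Kl.exists_conj (P : Fin 4 → Subgroup G) (hP : ∀ i, Kl (P i)) :
    ∃ i j, i ≠ j ∧ ∃ g : G, SelfCentThree.cj g (P i) = P j := by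
  classical
  have : Fact (Nat.Prime 2) := ⟨Nat.prime_two⟩
  obtain ⟨T⟩ := (inferInstance : Nonempty (Sylow 2 G))
  have hmove : ∀ i, ∃ g : G, SelfCentThree.cj g (P i) ≤ T := fun i => by
    obtain ⟨R, hR⟩ := (hP i).isPGroup.exists_le_sylow
    obtain ⟨g, hg⟩ := MulAction.exists_smul_eq G R T
    refine ⟨g, fun a ha => ?_⟩
    rw [← hg, Sylow.coe_subgroup_smul]
    exact ⟨g⁻¹ * a * g, hR (mem_cj.1 ha), show g * (g⁻¹ * a * g) * g⁻¹ = a by group⟩
  choose g hg using hmove
  set Q := fun i => SelfCentThree.cj (g i) (P i) with hQdef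
  have hQ : ∀ i, Kl (Q i) := fun i => (hP i).cj _
  have hTne : Nontrivial (T : Subgroup G) := by
    refine Finite.one_lt_card_iff_nontrivial.1 ?_
    have := Nat.le_of_dvd Nat.card_pos (card_dvd_of_le (hg 0))
    have h4 := (hQ 0).card
    simp only [hQdef] at h4
    omega
  have hnil : Group.IsNilpotent (T : Subgroup G) := T.2.isNilpotent
  obtain ⟨⟨z, hzT⟩, hzc, hz1'⟩ := (Subgroup.bot_or_exists_ne_one _).resolve_left
    (Group.IsNilpotent.center_ne_bot (G := (T : Subgroup G)))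
  have hz1 : z ≠ 1 := fun e => hz1' (Subtype.ext e)
  have hzc' : ∀ t ∈ (T : Subgroup G), t * z = z * t := fun t ht =>
    congrArg Subtype.val (mem_center_iff.1 hzc ⟨t, ht⟩)
  have hzQ : ∀ i, z ∈ Q i := fun i => (hQ i).cent z
    (by obtain ⟨k, hk⟩ := T.2 ⟨z, hzT⟩; exact ⟨k, congrArg Subtype.val hk⟩)
    fun p hp => hzc' p (hg i hp)
  have hw : ∀ i, ∃ w ∈ Q i, w ≠ 1 ∧ w ≠ z := fun i => by
    by_contra hc
    push Not at hc
    let f : Q i → Bool := fun v => decide (v.1 = 1)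
    have hf : Function.Injective f := fun v v' e => by
      have e' : v.1 = 1 ↔ v'.1 = 1 := by simpa [f] using e
      by_cases hv : v.1 = 1
      · exact Subtype.ext (hv.trans (e'.1 hv).symm)
      · exact Subtype.ext ((hc _ v.2 hv).trans (hc _ v'.2 fun h => hv (e'.2 h)).symm)
    have h2 := Nat.card_le_card_of_injective f hf
    rw [(hQ i).card, Nat.card_eq_fintype_card (α := Bool), Fintype.card_bool] at h2
    omega
  choose w hwQ hw1 hwz using hw
  have hcent : ∀ i (u : G), u ∈ (T : Subgroup G) → u * w i = w i * u → u ∈ Q i := fun i u hu he => by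
    refine (hQ i).cent u (by obtain ⟨k, hk⟩ := T.2 ⟨u, hu⟩; exact ⟨k, congrArg Subtype.val hk⟩) ?_
    have hle : centralizer ({u} : Set G) ⊓ Q i = Q i := by
      refine eq_of_le_of_card_ge inf_le_right ?_
      have h3 := card_ge_three (K := centralizer ({u} : Set G) ⊓ Q i)
        ⟨mem_centralizer_singleton_iff.2 (hzc' u hu).symm, hzQ i⟩
        ⟨mem_centralizer_singleton_iff.2 he.symm, hwQ i⟩ hz1 (hw1 i) (hwz i).symm
      have hd := card_dvd_of_le (inf_le_right : centralizer ({u} : Set G) ⊓ Q i ≤ Q i)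
      rw [(hQ i).card] at hd ⊢
      have := Nat.le_of_dvd (by norm_num) hd
      interval_cases Nat.card (centralizer ({u} : Set G) ⊓ Q i : Subgroup G) <;> omega
    intro p hp
    rw [← hle] at hp
    exact mem_centralizer_singleton_iff.1 hp.1
  by_contra hnc
  push Not at hnc
  have := Fintype.ofFinite G
  let dom := (Finset.univ : Finset (Fin 4)) ×ˢ (Finset.univ.filter (· ∈ (T : Subgroup G)))
  let φ : Fin 4 × G → G := fun p => p.2 * w p.1 * p.2⁻¹
  have hfib : ∀ y ∈ dom.image φ, (dom.filter fun p => φ p = y).card ≤ 4 := by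
    intro y hy
    obtain ⟨⟨i, t⟩, hit, rfl⟩ := Finset.mem_image.1 hy
    have ht : t ∈ (T : Subgroup G) := by simpa [dom] using hit
    have key : ∀ p : Fin 4 × G, p.2 ∈ (T : Subgroup G) → φ p = φ (i, t) →
        p.1 = i ∧ t⁻¹ * p.2 ∈ Q i := fun ⟨j, s⟩ hs he => by
      have he' : s * w j * s⁻¹ = t * w i * t⁻¹ := he
      have hji : SelfCentThree.cj (t⁻¹ * s) (Q j) = Q i := by
        refine eq_of_le_of_card_ge ?_ (by rw [(hQ i).card, card_cj, (hQ j).card])
        have h3 := card_ge_three (K := SelfCentThree.cj (t⁻¹ * s) (Q j) ⊓ Q i) (a := z) (b := w i)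
          ⟨mem_cj.2 (by
            have := hzc' (t⁻¹ * s) (mul_mem (inv_mem ht) hs)
            rw [show (t⁻¹ * s)⁻¹ * z * (t⁻¹ * s) = z by rw [mul_assoc _ z, ← this]; group]
            exact hzQ j), hzQ i⟩
          ⟨mem_cj.2 (by
            rw [show (t⁻¹ * s)⁻¹ * w i * (t⁻¹ * s) = s⁻¹ * (t * w i * t⁻¹) * s by group, ← he',
              show s⁻¹ * (s * w j * s⁻¹) * s = w j by group]
            exact hwQ j), hwQ i⟩ hz1 (hw1 i) (hwz i).symm
        have hd := card_dvd_of_le (inf_le_left : SelfCentThree.cj (t⁻¹ * s) (Q j) ⊓ Q i ≤ _)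
        rw [card_cj, (hQ j).card] at hd
        have := Nat.le_of_dvd (by norm_num) hd
        refine le_trans (ge_of_eq (eq_of_le_of_card_ge inf_le_left ?_)) inf_le_right
        rw [card_cj, (hQ j).card]
        interval_cases Nat.card (SelfCentThree.cj (t⁻¹ * s) (Q j) ⊓ Q i : Subgroup G) <;> omega
      have hij : j = i := by
        by_contra hne
        refine hnc j i hne ((g i)⁻¹ * (t⁻¹ * s) * g j) ?_
        simp only [hQdef] at hji
        rw [← cj_cj, ← cj_cj, hji, cj_cj, inv_mul_cancel, cj_one]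
      subst hij
      refine ⟨rfl, hcent j _ (mul_mem (inv_mem ht) hs) ?_⟩
      calc t⁻¹ * s * w j = t⁻¹ * (s * w j * s⁻¹) * s := by group
        _ = t⁻¹ * (t * w j * t⁻¹) * s := by rw [he']
        _ = w j * (t⁻¹ * s) := by group
    refine le_trans (Finset.card_le_card_of_injOn (fun p => t⁻¹ * p.2)
      (t := Finset.univ.filter (· ∈ Q i)) (fun p hp => ?_) fun p hp p' hp' e => ?_) ?_
    · simp only [Finset.coe_filter, Set.mem_setOf_eq, dom, Finset.mem_product, Finset.mem_filter,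
        Finset.mem_univ, true_and] at hp ⊢
      exact (key p hp.1 hp.2).2
    · simp only [Finset.coe_filter, Set.mem_setOf_eq, dom, Finset.mem_product, Finset.mem_filter,
        Finset.mem_univ, true_and] at hp hp'
      exact Prod.ext ((key p hp.1 hp.2).1.trans (key p' hp'.1 hp'.2).1.symm) (mul_left_cancel e)
    · rw [← (hQ i).card, Nat.card_eq_fintype_card, Fintype.card_subtype]
  have h1 := Finset.card_le_mul_card_image dom 4 hfib
  have h2 : dom.image φ ⊆ (Finset.univ.filter (· ∈ (T : Subgroup G))).erase 1 := by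
    intro y hy
    obtain ⟨⟨i, t⟩, hit, rfl⟩ := Finset.mem_image.1 hy
    have ht : t ∈ (T : Subgroup G) := by simpa [dom] using hit
    simp only [Finset.mem_erase, Finset.mem_filter, Finset.mem_univ, true_and, φ, ne_eq]
    exact ⟨fun e => hw1 i (conj_eq_one_iff.1 e), mul_mem (mul_mem ht (hg i (hwQ i))) (inv_mem ht)⟩
  have h3 := Finset.card_le_card h2
  rw [Finset.card_erase_of_mem (by simp [one_mem])] at h3
  simp only [dom, Finset.card_product, Finset.card_univ, Fintype.card_fin] at h1 h3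
  have hpos : 0 < (Finset.univ.filter (· ∈ (T : Subgroup G))).card :=
    Finset.card_pos.2 ⟨1, by simp [one_mem]⟩
  omega

end Cfsg.Agent.NineEight
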