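import Cfsg.Agent.NineEight.Two
import Cfsg.Agent.NineEight.Check
import Cfsg.Agent.NineTwoPrimes.Inversion

/-!
# The union of the invariant subgroups
-/

set_option autoImplicit false

namespace Cfsg.Agent.NineEight

open Subgroup
open Cfsg.Agent.ThreeTINine (TI)
open Cfsg.Agent.SelfCentThree (Inv part part_le part_isPGroup card_part mem_part le_part cj mem_cj
  conj_mem_cj card_cj cj_cj cj_one cj_eq_iff mem_normalizer_cj normalizer_le_normalizer_part
  le_normalizer_part conj_mem_of_norm inv_conj_mem_of_norm)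

universe u

variable {G : Type u} [Group G] [Finite G] {S : Subgroup G} {x : G} {P Q D N : Subgroup G}

/-- The elements sending `x` to itself or its inverse, modulo the group generated by `x`. -/
theorem Pt.exists_reps (h : Pt S x) : ∃ F : Finset G, F.card ≤ 6 ∧
    ∀ m : G, (m * x * m⁻¹ = x ∨ m * x * m⁻¹ = x⁻¹) → ∃ f ∈ F, f⁻¹ * m ∈ zpowers x := by
  classical
  have := Fintype.ofFinite G
  set Z := (zpowers x).subgroupOf S
  have hZ : Nat.card (S ⧸ Z) = 3 := by
    have : Fact (Nat.Prime 3) := ⟨Nat.prime_three⟩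
    have h1 := card_eq_card_quotient_mul_card_subgroup Z
    rw [h.ti.card, Nat.card_congr (subgroupOfEquivOfLe (zpowers_le.2 h.mem)).toEquiv,
      Nat.card_zpowers, orderOf_eq_prime h.cube h.ne] at h1
    omega
  let F0 : Finset G := (Finset.univ : Finset (S ⧸ Z)).image fun c => (c.out : G)
  have hF0 : F0.card ≤ 3 := Finset.card_image_le.trans
    (by rw [Finset.card_univ, ← Nat.card_eq_fintype_card, hZ])
  have hmem : ∀ s ∈ S, ∃ f ∈ F0, f⁻¹ * s ∈ zpowers x := fun s hs => by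
    refine ⟨_, Finset.mem_image_of_mem _ (Finset.mem_univ (QuotientGroup.mk ⟨s, hs⟩)), ?_⟩
    have e := QuotientGroup.eq.1 (QuotientGroup.out_eq' (QuotientGroup.mk (⟨s, hs⟩ : S) : S ⧸ Z))
    exact e
  have hin : ∀ m : G, m * x * m⁻¹ = x → m ∈ S := fun m e => h.mem_of_commute (mul_inv_eq_iff_eq_mul.1 e)
  by_cases ht : ∃ t : G, t * x * t⁻¹ = x⁻¹
  · obtain ⟨t, ht⟩ := ht
    refine ⟨F0 ∪ F0.image (t * ·), (Finset.card_union_le _ _).trans
      (Nat.add_le_add hF0 (Finset.card_image_le.trans hF0)), fun m hm => ?_⟩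
    rcases hm with hm | hm
    · obtain ⟨f, hf, e⟩ := hmem m (hin m hm)
      exact ⟨f, Finset.mem_union_left _ hf, e⟩
    · have e1 : (t⁻¹ * m) * x * (t⁻¹ * m)⁻¹ = x := by
        calc (t⁻¹ * m) * x * (t⁻¹ * m)⁻¹ = t⁻¹ * (m * x * m⁻¹) * t := by group
          _ = t⁻¹ * (t * x * t⁻¹) * t := by rw [hm, ht]
          _ = x := by group
      obtain ⟨f, hf, e⟩ := hmem _ (hin _ e1)
      exact ⟨t * f, Finset.mem_union_right _ (Finset.mem_image_of_mem _ hf),
        by rwa [mul_inv_rev, mul_assoc]⟩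
  · refine ⟨F0, hF0.trans (by norm_num), fun m hm => ?_⟩
    exact hmem m (hin m (hm.resolve_right fun e => ht ⟨m, e⟩))

/-- A subgroup has at most six invariant conjugates. -/
theorem Pt.exists_orbit (h : Pt S x) (L : Loc x (normalizer (P : Set G)) N) :
    ∃ T : Finset (Subgroup G), T.card ≤ 6 ∧ ∀ g : G, Inv x (cj g P) → cj g P ∈ T := by
  classical
  obtain ⟨F, hF, hrep⟩ := h.exists_reps
  refine ⟨F.image fun f => cj f P, Finset.card_image_le.trans hF, fun g hg => ?_⟩
  have ht : g⁻¹ * x * g ∈ normalizer (P : Set G) :=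
    (mem_normalizer_cj (g := g)).1 (by rw [show g * (g⁻¹ * x * g) * g⁻¹ = x by group]; exact hg.norm)
  obtain ⟨a, ha, hcase⟩ := L.conj_of_cube h ht
    (by rw [show g⁻¹ * x * g = g⁻¹ * x * g⁻¹⁻¹ by group, conj_pow, h.cube, mul_one, mul_inv_cancel])
    fun e => h.ne (by
      calc x = g * (g⁻¹ * x * g) * g⁻¹ := by group
        _ = 1 := by rw [e]; group)
  have hm : g * a * x * (g * a)⁻¹ = x ∨ g * a * x * (g * a)⁻¹ = x⁻¹ := by
    rcases hcase with e | e
    · left
      calc g * a * x * (g * a)⁻¹ = g * (a * x * a⁻¹) * g⁻¹ := by group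
        _ = x := by rw [← e]; group
    · right
      calc g * a * x * (g * a)⁻¹ = (g * (a * x⁻¹ * a⁻¹) * g⁻¹)⁻¹ := by group
        _ = x⁻¹ := by rw [← e]; group
  obtain ⟨f, hf, e⟩ := hrep _ hm
  obtain ⟨i, hi⟩ := mem_zpowers_iff.1 e
  refine Finset.mem_image.2 ⟨f, hf, ?_⟩
  have h1 : cj (g * a) P = cj g P := by rw [← cj_cj, cj_eq_iff.2 (L.le ha)]
  rw [← h1, show g * a = f * x ^ i by rw [hi]; group, ← cj_cj,
    cj_eq_iff.2 (zpow_mem L.xH i)]

omit [Finite G] in
theorem MaxTwo.cj (hM : MaxTwo x P) (g : G) : MaxTwo (g * x * g⁻¹) (cj g P) := by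
  refine ⟨hM.inv.cj g, hM.two.map _, fun W hW hW2 hle => ?_⟩
  have h1 := hM.max (SelfCentThree.cj g⁻¹ W)
    (by
      have := hW.cj g⁻¹
      rwa [show g⁻¹ * (g * x * g⁻¹) * g⁻¹⁻¹ = x by group] at this)
    (hW2.map _) (by
      have := SelfCentThree.cj_mono (g := g⁻¹) hle
      rwa [cj_cj, inv_mul_cancel, cj_one] at this)
  rw [← h1, cj_cj, mul_inv_cancel, cj_one]

theorem exists_maxTwo {K : Subgroup G} (hK : Inv x K) (hK2 : IsPGroup 2 K) :
    ∃ P, MaxTwo x P ∧ K ≤ P := by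
  obtain ⟨M, h1, h2⟩ := (Set.toFinite {L : Subgroup G | Inv x L ∧ IsPGroup 2 L}).exists_le_maximal
    (show K ∈ {L : Subgroup G | Inv x L ∧ IsPGroup 2 L} from ⟨hK, hK2⟩)
  exact ⟨M, ⟨h2.prop.1, h2.prop.2, fun L hL hL2 hle => le_antisymm (h2.2 ⟨hL, hL2⟩ hle) hle⟩, h1⟩

theorem exists_maxQ {q : ℕ} {K : Subgroup G} (hK : Inv x K) (hKq : IsPGroup q K) :
    ∃ Q, (Inv x Q ∧ IsPGroup q Q ∧ ∀ L, Inv x L → IsPGroup q L → Q ≤ L → L = Q) ∧ K ≤ Q := by
  obtain ⟨M, h1, h2⟩ := (Set.toFinite {L : Subgroup G | Inv x L ∧ IsPGroup q L}).exists_le_maximal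
    (show K ∈ {L : Subgroup G | Inv x L ∧ IsPGroup q L} from ⟨hK, hKq⟩)
  exact ⟨M, ⟨h2.prop.1, h2.prop.2, fun L hL hL2 hle => le_antisymm (h2.2 ⟨hL, hL2⟩ hle) hle⟩, h1⟩

theorem inv_part {p : ℕ} [Fact p.Prime] {K : Subgroup G} (hK : Inv x K) (hnil : Group.IsNilpotent K) :
    Inv x (part p K) :=
  ⟨normalizer_le_normalizer_part hnil hK.norm,
    fun hd => hK.cop (hd.trans (card_dvd_of_le (part_le p K)))⟩

/-- Parts for different primes commute. -/
theorem commute_parts {p r : ℕ} [Fact p.Prime] [Fact r.Prime] (hpr : p ≠ r) {M Y U : Subgroup G}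
    (hM : Group.IsNilpotent M) (hY : IsPGroup p Y) (hU : IsPGroup r U) (hYM : Y ≤ M) (hUM : U ≤ M) :
    ∀ y ∈ Y, ∀ u ∈ U, y * u = u * y := by
  intro y hy u hu
  have hy' := le_part hM hY hYM hy
  have hu' := le_part hM hU hUM hu
  have h1 : y * (u * y⁻¹ * u⁻¹) ∈ part p M :=
    mul_mem hy' (conj_mem_of_norm (le_normalizer_part hM (hUM hu)) (inv_mem hy'))
  have h2 : y * u * y⁻¹ * u⁻¹ ∈ part r M :=
    mul_mem (conj_mem_of_norm (le_normalizer_part hM (hYM hy)) hu') (inv_mem hu')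
  rw [← mul_assoc, ← mul_assoc] at h1
  have hd := IsPGroup.disjoint_of_ne p r hpr _ _
    (part_isPGroup (p := p) (M := M)) (part_isPGroup (p := r) (M := M))
  have h3 := (mem_bot).1 (hd.le_bot ⟨h1, h2⟩)
  rw [mul_inv_eq_one, mul_inv_eq_iff_eq_mul] at h3
  exact h3

/-- A centralized invariant subgroup grows to the whole group. -/
theorem Pt.grow (h : Pt S x) {p r : ℕ} [Fact p.Prime] [Fact r.Prime] (hpr : p ≠ r)
    {Y D0 : Subgroup G} (hY : Inv x Y) (hYp : IsPGroup p Y) (hQ : Inv x Q) (hQr : IsPGroup r Q)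
    (hD0 : Inv x D0) (hD0Q : D0 ≤ Q) (hD0ne : D0 ≠ ⊥) (hc : ∀ y ∈ Y, ∀ d ∈ D0, y * d = d * y)
    (hfive : ∀ D, Inv x D → D ≤ Q → D ≠ ⊥ → Y ≤ normalizer (D : Set G) →
      ¬ Five x (normalizer (D : Set G))) :
    ∀ y ∈ Y, ∀ v ∈ Q, y * v = v * y := by
  let T : Set (Subgroup G) := {D | Inv x D ∧ D0 ≤ D ∧ D ≤ Q ∧ ∀ y ∈ Y, ∀ d ∈ D, y * d = d * y}
  obtain ⟨D, -, hD⟩ := (Set.toFinite T).exists_le_maximal
    (show D0 ∈ T from ⟨hD0, le_rfl, hD0Q, hc⟩)
  obtain ⟨hDi, hD0D, hDQ, hDc⟩ := hD.prop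
  rcases eq_or_lt_of_le hDQ with e | hlt
  · exact e ▸ hDc
  exfalso
  have hU := Fusion.lt_inf_normalizer_of_isPGroup hQr hlt
  set U := Q ⊓ normalizer (D : Set G)
  have hDne : D ≠ ⊥ := fun e => hD0ne (le_bot_iff.1 (e ▸ hD0D))
  have hYN : Y ≤ normalizer (D : Set G) := fun y hy => mem_normalizer_iff.2 fun d => by
    constructor
    · intro hd
      rwa [hDc y hy d hd, mul_inv_cancel_right]
    · intro hd
      have := hDc y hy _ hd
      rw [inv_mul_cancel_right] at this
      rwa [mul_left_cancel this] at hd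
  rcases h.local_structure hDi hDne with ⟨N, L⟩ | hF
  swap
  · exact hfive D hDi hDQ hDne hYN hF
  have hUi : Inv x U := by
    refine ⟨mem_normalizer_iff.2 fun g => ?_, fun hd => hQ.cop (hd.trans (card_dvd_of_le inf_le_left))⟩
    show g ∈ Q ∧ g ∈ normalizer (D : Set G) ↔ x * g * x⁻¹ ∈ Q ∧ x * g * x⁻¹ ∈ normalizer (D : Set G)
    refine and_congr (mem_normalizer_iff.1 hQ.norm g) ⟨fun hg =>
      mul_mem (mul_mem hDi.norm hg) (inv_mem hDi.norm), fun hg => ?_⟩
    have := mul_mem (mul_mem (inv_mem hDi.norm) hg) hDi.norm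
    rwa [show x⁻¹ * (x * g * x⁻¹) * x = g by group] at this
  have hUc := commute_parts hpr L.nil hYp (hQr.to_le (inf_le_left : U ≤ Q))
    (L.absorb Y hY hYN) (L.absorb U hUi inf_le_right)
  exact hU.not_ge (hD.2 ⟨hUi, hD0D.trans hU.le, inf_le_left, hUc⟩ hU.le)

theorem factorization_two_q {q i j : ℕ} (hq : q.Prime) (hq2 : q ≠ 2) :
    (2 ^ i * q ^ j).factorization 2 = i ∧ (2 ^ i * q ^ j).factorization q = j := by
  rw [Nat.factorization_mul (by positivity) (pow_ne_zero _ hq.ne_zero), Nat.factorization_pow,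
    Nat.factorization_pow, Nat.prime_two.factorization, hq.factorization]
  simp [hq2, hq2.symm]

variable {q a b : ℕ} [Fact q.Prime]

theorem card_parts (hq5 : 5 ≤ q) (hcard : Nat.card G = 9 * 2 ^ a * q ^ b) {K : Subgroup G}
    (hK : Inv x K) : Nat.card (part 2 K) * Nat.card (part q K) = Nat.card K := by
  have hq : q.Prime := Fact.out
  have hd : Nat.card K ∣ 2 ^ a * q ^ b :=
    NineTwoPrimes.dvd_two_q_of_not_three_dvd (hcard ▸ card_subgroup_dvd_card K) hK.cop
  obtain ⟨u, v, hu, hv, e⟩ := exists_dvd_and_dvd_of_dvd_mul hd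
  obtain ⟨i, -, rfl⟩ := (Nat.dvd_prime_pow Nat.prime_two).1 hu
  obtain ⟨j, -, rfl⟩ := (Nat.dvd_prime_pow hq).1 hv
  obtain ⟨h2, h3⟩ := factorization_two_q (i := i) (j := j) hq (by omega)
  rw [card_part, card_part, e, h2, h3]

theorem card_sylow_two (hq5 : 5 ≤ q) (hcard : Nat.card G = 9 * 2 ^ a * q ^ b) (T : Sylow 2 G) :
    Nat.card T = 2 ^ a := by
  rw [T.card_eq_multiplicity, hcard, mul_assoc,
    Nat.factorization_mul (by norm_num) (by have := (Fact.out : q.Prime).pos; positivity),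
    Finsupp.add_apply, (factorization_two_q (Fact.out : q.Prime) (by omega)).1,
    Nat.factorization_eq_zero_of_not_dvd (by norm_num), zero_add]

omit [Fact q.Prime] in
theorem card_dvd_index_factorial (hG : IsSimpleGroup G) {M : Subgroup G} (hM : M ≠ ⊤) :
    Nat.card G ∣ M.index.factorial := by
  classical
  have hinj : Function.Injective (MulAction.toPermHom G (G ⧸ M)) := by
    rw [← MonoidHom.ker_eq_bot_iff, ← normalCore_eq_ker]
    exact (hG.eq_bot_or_eq_top_of_normal _ (normalCore_normal M)).resolve_right fun h =>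
      hM (top_unique (h ▸ normalCore_le M))
  have := card_dvd_of_injective _ hinj
  rwa [Nat.card_perm, show Nat.card (G ⧸ M) = M.index from rfl] at this

/-- The order of a maximal invariant two-subgroup other than four. -/
theorem MaxTwo.card_big (h : Pt S x) (hM : MaxTwo x P) (hne : P ≠ ⊥) (hq5 : 5 ≤ q)
    (hcard : Nat.card G = 9 * 2 ^ a * q ^ b) (h4 : Nat.card P ≠ 4) :
    Nat.card P = if a % 2 = 0 then 2 ^ a else 2 ^ (a - 1) := by
  obtain ⟨i, hi⟩ := hM.two.exists_card_eq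
  have h3 := h.card_mod hM.inv
  rw [hi] at h3
  have hev : i % 2 = 0 := by
    by_contra hodd
    rw [← Nat.div_add_mod i 2, show i % 2 = 1 by omega, pow_succ, pow_mul, Nat.mul_mod,
      Nat.pow_mod] at h3
    norm_num at h3
  rcases hM.card_cases h hne (card_sylow_two hq5 hcard) with e | e | e
  · rw [hi] at e
    have := Nat.pow_right_injective (le_refl 2) e
    rw [if_pos (by omega), hi, this]
  · rw [hi, ← pow_succ'] at e
    have := Nat.pow_right_injective (le_refl 2) e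
    rw [if_neg (by omega), hi, show a - 1 = i by omega]
  · exact absurd e h4

/-- Maximal invariant two-subgroups of order other than four are conjugate. -/
theorem MaxTwo.conj_big (h : Pt S x) {P' : Subgroup G} (hM : MaxTwo x P) (hM' : MaxTwo x P')
    (hne : P ≠ ⊥) (hne' : P' ≠ ⊥) (hq5 : 5 ≤ q) (hcard : Nat.card G = 9 * 2 ^ a * q ^ b)
    (h4 : Nat.card P ≠ 4) (h4' : Nat.card P' ≠ 4) : ∃ g : G, SelfCentThree.cj g P = P' := by
  have : Fact (Nat.Prime 2) := ⟨Nat.prime_two⟩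
  obtain ⟨T, hT⟩ := hM.two.exists_le_sylow
  obtain ⟨T', hT'⟩ := hM'.two.exists_le_sylow
  obtain ⟨g, hg⟩ := MulAction.exists_smul_eq G T T'
  have hle : SelfCentThree.cj g P ≤ T' := fun y hy => by
    rw [← hg, Sylow.coe_subgroup_smul]
    exact ⟨g⁻¹ * y * g, hT (mem_cj.1 hy), show g * (g⁻¹ * y * g) * g⁻¹ = y by group⟩
  refine ⟨g, ?_⟩
  have e1 := hM.card_big h hne hq5 hcard h4
  have e2 := hM'.card_big h hne' hq5 hcard h4'
  have hT2 := card_sylow_two hq5 hcard T'
  by_cases hev : a % 2 = 0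
  · rw [if_pos hev] at e1 e2
    rw [eq_of_le_of_card_ge hle (by rw [card_cj, e1]; exact hT2.le),
      eq_of_le_of_card_ge hT' (by rw [e2]; exact hT2.le)]
  · rw [if_neg hev] at e1 e2
    have hA : 2 * 2 ^ (a - 1) = 2 ^ a := by rw [← pow_succ']; congr 1; omega
    by_contra hne2
    have hgne : SelfCentThree.cj g P ≠ ⊥ := fun e => hne (by
      rw [← card_eq_one, ← card_cj g P, e, card_bot])
    obtain ⟨N, L⟩ := (hM.cj g).exists_loc (h.conj g) hgne
    have := L.four_of_pair (h.conj g) h hgne hM'.inv T'.2 hle hT'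
      (by rw [card_cj, e1, hA]; exact hT2.symm) (by rw [e2, hA]; exact hT2.symm) hne2
    rw [card_cj] at this
    exact h4 this

section Classical

open scoped _root_.Classical

/-- The nonidentity elements of a subgroup. -/
noncomputable def el (G : Type u) [Group G] [Fintype G] (P : Subgroup G) : Finset G :=
  Finset.univ.filter fun g => g ∈ P ∧ g ≠ 1

theorem card_el [Fintype G] (P : Subgroup G) : (el G P).card + 1 = Nat.card P := by
  have h1 : el G P = (Finset.univ.filter (· ∈ P)).erase 1 := by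
    ext g; simp [el, and_comm]
  rw [h1, Finset.card_erase_add_one (by simp [one_mem]), Nat.card_eq_fintype_card, Fintype.card_subtype]

/-- The invariant two-elements. -/
theorem Pt.two_bound [Fintype G] (h : Pt S x) (hq5 : 5 ≤ q) (hcard : Nat.card G = 9 * 2 ^ a * q ^ b) :
    ∃ U : Finset G, U.card ≤ 54 + 6 * (if a % 2 = 0 then 2 ^ a else 2 ^ (a - 1)) ∧
      ∀ P, MaxTwo x P → ∀ g ∈ P, g ≠ 1 → g ∈ U := by
  set A2 := if a % 2 = 0 then 2 ^ a else 2 ^ (a - 1)
  have horb : ∀ P, MaxTwo x P → P ≠ ⊥ → ∃ T : Finset (Subgroup G), T.card ≤ 6 ∧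
      ∀ g : G, Inv x (SelfCentThree.cj g P) → SelfCentThree.cj g P ∈ T := fun P hP hne => by
    obtain ⟨N, L⟩ := hP.exists_loc h hne
    exact h.exists_orbit L.loc
  choose! T hT hTmem using horb
  let E : Subgroup G → Finset G := fun P =>
    ((T P).filter fun R : Subgroup G => Nat.card R = Nat.card P).biUnion (el G)
  have hE : ∀ P, MaxTwo x P → P ≠ ⊥ → ∀ R, MaxTwo x R → (∃ g, SelfCentThree.cj g P = R) →
      ∀ y ∈ R, y ≠ 1 → y ∈ E P := by
    rintro P hP hne R hR ⟨g, rfl⟩ y hy hy1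
    refine Finset.mem_biUnion.2 ⟨_, Finset.mem_filter.2 ⟨hTmem P hP hne g hR.inv, card_cj g P⟩, ?_⟩
    simp [el, hy, hy1]
  have hEc : ∀ P, MaxTwo x P → P ≠ ⊥ → (E P).card ≤ 6 * (Nat.card P - 1) := fun P hP hne => by
    refine (Finset.card_biUnion_le_card_mul _ _ (Nat.card P - 1) fun R hR => ?_).trans
      (Nat.mul_le_mul_right _ ((Finset.card_filter_le _ _).trans (hT P hP hne)))
    have := card_el R
    rw [(Finset.mem_filter.1 hR).2] at this
    omega
  -- the groups of order four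
  obtain ⟨fours, hfours⟩ : ∃ s : Finset (Subgroup G), Maximal (fun s : Finset (Subgroup G) =>
      (∀ P ∈ s, MaxTwo x P ∧ Nat.card P = 4) ∧
      ∀ P ∈ s, ∀ R ∈ s, ∀ g, SelfCentThree.cj g P = R → P = R) s :=
    Set.Finite.exists_maximal (Set.toFinite _) ⟨∅, ⟨by simp, by simp⟩⟩
  obtain ⟨hf1, hf2⟩ := hfours.prop
  have hf3 : fours.card ≤ 3 := by
    by_contra hc
    obtain ⟨s4, hs4, hc4⟩ := Finset.exists_subset_card_eq (show 4 ≤ fours.card by omega)
    let f := (s4.equivFinOfCardEq hc4).symm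
    obtain ⟨i, j, hij, g, hg⟩ := Kl.exists_conj (fun i => (f i : Subgroup G))
      fun i => (hf1 _ (hs4 (f i).2)).1.kl h (hf1 _ (hs4 (f i).2)).2
    exact hij (f.injective (Subtype.ext (hf2 _ (hs4 (f i).2) _ (hs4 (f j).2) g hg)))
  have hne4 : ∀ P : Subgroup G, Nat.card P = 4 → P ≠ ⊥ := fun P h4 e => by
    rw [e, card_bot] at h4; omega
  let U4 := fours.biUnion E
  have hU4 : U4.card ≤ 54 := by
    refine (Finset.card_biUnion_le_card_mul _ _ 18 fun P hP => ?_).trans (by omega)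
    have := hEc P (hf1 P hP).1 (hne4 P (hf1 P hP).2)
    rw [(hf1 P hP).2] at this
    omega
  have hmem4 : ∀ R, MaxTwo x R → Nat.card R = 4 → ∀ y ∈ R, y ≠ 1 → y ∈ U4 := by
    intro R hR h4 y hy hy1
    obtain ⟨P, hP, g, hg⟩ : ∃ P ∈ fours, ∃ g, SelfCentThree.cj g P = R := by
      by_contra hc
      push Not at hc
      have hins := hfours.2 (y := insert R fours) ⟨fun P hP => ?_, fun P hP P' hP' g e => ?_⟩
        (Finset.subset_insert _ _)
      · exact hc R (hins (Finset.mem_insert_self _ _)) 1 (cj_one R)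
      · rcases Finset.mem_insert.1 hP with rfl | hP
        · exact ⟨hR, h4⟩
        · exact hf1 P hP
      · rcases Finset.mem_insert.1 hP with e1 | hP1 <;> rcases Finset.mem_insert.1 hP' with e2 | hP1'
        · exact e1.trans e2.symm
        · subst e1
          exact absurd (by rw [← e, cj_cj, inv_mul_cancel, cj_one]) (hc P' hP1' g⁻¹)
        · subst e2
          exact absurd e (hc P hP1 g)
        · exact hf2 P hP1 P' hP1' g e
    exact Finset.mem_biUnion.2 ⟨P, hP, hE P (hf1 P hP).1 (hne4 P (hf1 P hP).2) R hR ⟨g, hg⟩ y hy hy1⟩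
  by_cases hbig : ∃ P, MaxTwo x P ∧ P ≠ ⊥ ∧ Nat.card P ≠ 4
  · obtain ⟨P, hP, hne, h4⟩ := hbig
    refine ⟨U4 ∪ E P, (Finset.card_union_le _ _).trans (Nat.add_le_add hU4 ?_), fun R hR y hy hy1 => ?_⟩
    · refine (hEc P hP hne).trans (Nat.mul_le_mul_left _ ?_)
      rw [hP.card_big h hne hq5 hcard h4]
      exact Nat.sub_le _ _
    · by_cases h4' : Nat.card R = 4
      · exact Finset.mem_union_left _ (hmem4 R hR h4' y hy hy1)
      · exact Finset.mem_union_right _ (hE P hP hne R hR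
          (hP.conj_big h hR hne (fun e => hy1 (mem_bot.1 (e ▸ hy))) hq5 hcard h4 h4') y hy hy1)
  · push Not at hbig
    exact ⟨U4, hU4.trans (Nat.le_add_right _ _), fun R hR y hy hy1 =>
      hmem4 R hR (hbig R hR fun e => hy1 (mem_bot.1 (e ▸ hy))) y hy hy1⟩

/-- The maximal invariant `q`-subgroups. -/
theorem Pt.maxQ_data (h : Pt S x) (hs : IsSimpleGroup G) (hna : ¬ IsMulCommutative G) (hq5 : 5 ≤ q)
    (ha : 3 ≤ a) (hcard : Nat.card G = 9 * 2 ^ a * q ^ b) (hQ : Inv x Q) (hQq : IsPGroup q Q)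
    (hQmax : ∀ L, Inv x L → IsPGroup q L → Q ≤ L → L = Q) (hne : Q ≠ ⊥) :
    qt q a b = true ∧ Nat.card Q = q ^ b ∧ ∃ F, Loc x (normalizer (Q : Set G)) F ∧
      Nat.card (part 2 F) ≤ 4 ∧ Nat.card F = Nat.card (part 2 F) * q ^ b := by
  have hq : q.Prime := Fact.out
  have : Fact (Nat.Prime 2) := ⟨Nat.prime_two⟩
  rcases h.local_structure hQ hne with ⟨F, L⟩ | hF
  swap
  · exact absurd (h.five_no_odd hF (by omega) hQ le_normalizer hQq) hne
  have hQF : Q ≤ F := L.absorb Q hQ le_normalizer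
  have hpart : part q F = Q := hQmax _ (inv_part L.inv L.nil) part_isPGroup (le_part L.nil hQq hQF)
  have hFc := card_parts hq5 hcard L.inv
  rw [hpart] at hFc
  obtain ⟨T, hT⟩ := hQq.exists_le_sylow
  have hTc : Nat.card T = q ^ b := by
    rw [T.card_eq_multiplicity, hcard, mul_assoc,
      Nat.factorization_mul (by norm_num) (by positivity),
      Finsupp.add_apply, (factorization_two_q hq (by omega)).2,
      Nat.factorization_eq_zero_of_not_dvd (fun hd => ?_), zero_add]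
    have := Nat.le_of_dvd (by norm_num) hd
    interval_cases q <;> first | omega | exact absurd hq (by norm_num)
  have hQT : Q = (T : Subgroup G) := by
    by_contra hne'
    have hU := Fusion.lt_inf_normalizer_of_isPGroup T.2 (lt_of_le_of_ne hT hne')
    set U := (T : Subgroup G) ⊓ normalizer (Q : Set G)
    obtain ⟨k, hk⟩ := (T.2.to_le (inf_le_left : U ≤ (T : Subgroup G))).exists_card_eq
    obtain ⟨j, hj⟩ := hQq.exists_card_eq
    have hj' : (Nat.card F).factorization q = j := by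
      have := card_part q F
      rw [hpart, hj] at this
      exact (Nat.pow_right_injective hq.two_le this).symm
    have hd : q ^ k ∣ 6 * Nat.card F := hk ▸ (card_dvd_of_le inf_le_right).trans
      (by rcases L.card with e | e <;> rw [e] <;> exact ⟨2, by ring⟩ <;> exact dvd_rfl)
    have hd2 : q ^ k ∣ 2 * (3 * Nat.card F) := by rwa [show 6 * Nat.card F = 2 * (3 * Nat.card F) by ring] at hd
    have hd3 := ((Nat.coprime_primes hq Nat.prime_two).2 (by omega)).pow_left k |>.dvd_of_dvd_mul_left hd2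
    have hd4 := ((Nat.coprime_primes hq Nat.prime_three).2 (by omega)).pow_left k |>.dvd_of_dvd_mul_left hd3
    have hkj := (Nat.Prime.pow_dvd_iff_le_factorization hq Nat.card_pos.ne').1 hd4
    refine hU.ne (eq_of_le_of_card_ge hU.le ?_)
    rw [hk, hj]
    exact Nat.pow_le_pow_right hq.pos (by omega)
  have hQc : Nat.card Q = q ^ b := by rw [hQT]; exact hTc
  rw [hQc] at hFc
  have hQ3 := h.card_mod hQ
  rw [hQc] at hQ3
  -- the two-part is small
  obtain ⟨i0, hi0⟩ := (part_isPGroup (p := 2) (M := F)).exists_card_eq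
  have hn := card_sylow_modEq_one q G
  rw [Sylow.card_eq_index_normalizer T] at hn
  have hidx := (normalizer (Q : Set G)).card_mul_index
  have hn' : (normalizer (Q : Set G)).index ≡ 1 [MOD q] := by rw [hQT]; exact hn
  clear hn
  rename' hn' => hn
  set n := (normalizer (Q : Set G)).index
  rw [hcard] at hidx
  obtain ⟨i, hi, hni⟩ : ∃ i, (i = i0 ∨ i = i0 + 1) ∧ n * 2 ^ i = 3 * 2 ^ a := by
    have hpos : 0 < q ^ b := pow_pos hq.pos b
    rcases L.card with e | e <;> rw [e, ← hFc, hi0] at hidx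
    · refine ⟨i0, Or.inl rfl, Nat.eq_of_mul_eq_mul_right (show 0 < 3 * q ^ b by omega) ?_⟩
      linear_combination hidx
    · refine ⟨i0 + 1, Or.inr rfl, Nat.eq_of_mul_eq_mul_right (show 0 < 3 * q ^ b by omega) ?_⟩
      rw [pow_succ]
      linear_combination hidx
  have hia : i ≤ a := by
    have h2 : 2 ^ i ∣ 3 * 2 ^ a := Dvd.intro_left n hni
    exact (Nat.pow_dvd_pow_iff_le_right (by norm_num)).1
      ((Nat.Coprime.pow_left i (by norm_num : Nat.Coprime 2 3)).dvd_of_dvd_mul_left h2)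
  have hnval : n = 3 * 2 ^ (a - i) := by
    refine Nat.eq_of_mul_eq_mul_right (show 0 < 2 ^ i by positivity) ?_
    rw [hni, mul_assoc, ← pow_add, Nat.sub_add_cancel hia]
  have hsmall : Nat.card (part 2 F) ≤ 4 := by
    by_contra hgt
    have h2i := inv_part (p := 2) L.inv L.nil
    have h2ne : part 2 F ≠ ⊥ := fun e => by rw [e, card_bot] at hgt; omega
    obtain ⟨P, hP, hPle⟩ := exists_maxTwo h2i part_isPGroup
    have hc := h.grow (p := q) (r := 2) (Y := Q) (Q := P) (D0 := part 2 F) (by omega) hQ hQq hP.inv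
      hP.two h2i hPle h2ne
      (commute_parts (by omega) L.nil hQq part_isPGroup hQF (part_le 2 F))
      (fun D _ _ _ hQD hF => hne (h.five_no_odd hF (by omega) hQ hQD hQq))
    have hPQ : P ≤ normalizer (Q : Set G) := fun v hv => mem_normalizer_iff.2 fun d => by
      constructor
      · intro hd
        rwa [← hc d hd v hv, mul_inv_cancel_right]
      · intro hd
        have := hc _ hd v hv
        rw [inv_mul_cancel_right] at this
        rwa [← mul_left_cancel this.symm]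
    have hPF : P = part 2 F := le_antisymm (le_part L.nil hP.two (L.absorb P hP.inv hPQ)) hPle
    have hbigc := hP.card_big h (fun e => h2ne (hPF ▸ e)) hq5 hcard (by rw [hPF]; omega)
    rw [hPF, hi0] at hbigc
    have hdiv : Nat.card G ∣ n.factorial := card_dvd_index_factorial hs fun e => hne (by
      have hQn : Q.Normal := normalizer_eq_top_iff.1 e
      rcases hs.eq_bot_or_eq_top_of_normal Q hQn with e1 | e1
      · exact e1
      · exfalso
        have h1 : Nat.card Q = Nat.card G := by rw [e1, Subgroup.card_top]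
        rw [hQc, hcard] at h1
        exact absurd (Nat.prime_three.dvd_of_dvd_pow (h1 ▸ ⟨3 * 2 ^ a * q ^ b, by ring⟩ : 3 ∣ q ^ b))
          (fun hd => by have := (Nat.prime_dvd_prime_iff_eq Nat.prime_three hq).1 hd; omega))
    have hd9 : 2 ^ a ∣ n.factorial := (Dvd.intro (9 * q ^ b) (by rw [hcard]; ring)).trans hdiv
    split_ifs at hbigc with hev
    · have := Nat.pow_right_injective (le_refl 2) hbigc
      have : 2 ^ (a - i) = 1 := by rw [show a - i = 0 by omega, pow_zero]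
      rw [hnval, this] at hd9
      have h8 := (pow_dvd_pow 2 ha).trans hd9
      norm_num [Nat.factorial] at h8
    · have := Nat.pow_right_injective (le_refl 2) hbigc
      have hn6 : n.factorial ∣ Nat.factorial 6 := Nat.factorial_dvd_factorial (by
        have : 2 ^ (a - i) ≤ 2 := by
          calc 2 ^ (a - i) ≤ 2 ^ 1 := Nat.pow_le_pow_right (by norm_num) (by omega)
            _ = 2 := rfl
        omega)
      have ha4 : a ≤ 4 := by
        by_contra hc
        have h32 := (pow_dvd_pow 2 (show 5 ≤ a by omega)).trans (hd9.trans hn6)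
        norm_num [Nat.factorial] at h32
      rw [hi0, show i0 = 2 by omega] at hgt
      omega
  refine ⟨?_, hQc, F, L, hsmall, hFc.symm⟩
  rw [hi0] at hsmall
  have hi02 : i0 ≤ 2 := (Nat.pow_le_pow_iff_right (by norm_num : 1 < 2)).1 hsmall
  simp only [qt, Bool.and_eq_true, decide_eq_true_eq, List.any_eq_true, List.mem_range]
  refine ⟨hQ3, i, by omega, ?_⟩
  rw [← hnval, hn, Nat.mod_eq_of_lt hq.one_lt]

/-- The union of the invariant subgroups is small. -/
theorem Pt.card_union_le (h : Pt S x) (hs : IsSimpleGroup G) (hna : ¬ IsMulCommutative G) (hq5 : 5 ≤ q)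
    (ha : 3 ≤ a) (hcard : Nat.card G = 9 * 2 ^ a * q ^ b) :
    Set.ncard {g : G | g ≠ 1 ∧ ∃ K, Inv x K ∧ g ∈ K} + 7 ≤ bnd q a b := by
  have := Fintype.ofFinite G
  have : Fact (Nat.Prime 2) := ⟨Nat.prime_two⟩
  obtain ⟨U, hU, hUmem⟩ := h.two_bound hq5 hcard
  -- the two-elements
  have h2 : ∀ K, Inv x K → ∀ g ∈ K, g ≠ 1 → (∃ k : ℕ, g ^ 2 ^ k = 1) → g ∈ U := by
    intro K hK g hg hg1 hk
    have hnil := h.inv_nilpotent hK
    obtain ⟨P, hP, hle⟩ := exists_maxTwo (inv_part (p := 2) hK hnil) part_isPGroup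
    exact hUmem P hP g (hle ((mem_part hnil).2 ⟨hg, hk⟩)) hg1
  -- an element of other order comes from a maximal `q`-subgroup
  have hq' : ∀ K, Inv x K → ∀ g ∈ K, (¬ ∃ k : ℕ, g ^ 2 ^ k = 1) → part q K ≠ ⊥ ∧
      ∀ Q, (Inv x Q ∧ IsPGroup q Q ∧ ∀ L, Inv x L → IsPGroup q L → Q ≤ L → L = Q) →
        part q K ≤ Q → K ≤ normalizer (Q : Set G) := by
    intro K hK g hg hk
    have hnil := h.inv_nilpotent hK
    have hKc := card_parts hq5 hcard hK
    have hqne : part q K ≠ ⊥ := fun e => hk (by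
      rw [e, card_bot, mul_one] at hKc
      have e2 : part 2 K = K := eq_of_le_of_card_ge (part_le 2 K) hKc.ge
      exact ((mem_part hnil).1 (e2.symm ▸ hg)).2)
    refine ⟨hqne, fun Q ⟨hQ, hQq, _⟩ hle => ?_⟩
    have h2N : part 2 K ≤ normalizer (Q : Set G) := by
      have hc := h.grow (p := 2) (r := q) (Y := part 2 K) (Q := Q) (D0 := part q K) (by omega)
        (inv_part hK hnil) part_isPGroup hQ hQq (inv_part hK hnil) hle hqne
        (commute_parts (by omega) hnil part_isPGroup part_isPGroup (part_le 2 K) (part_le q K))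
        (fun D hD hDQ hDne _ hF =>
          hDne (h.five_no_odd hF (by omega) hD le_normalizer (hQq.to_le hDQ)))
      intro v hv
      rw [mem_normalizer_iff]
      intro d
      constructor
      · intro hd
        rwa [hc v hv d hd, mul_inv_cancel_right]
      · intro hd
        have := hc v hv _ hd
        rw [inv_mul_cancel_right] at this
        rwa [mul_left_cancel this] at hd
    have hcop : (Nat.card (part 2 K)).Coprime (Nat.card (part q K)) := by
      rw [card_part, card_part]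
      exact ((Nat.coprime_primes Nat.prime_two Fact.out).2 (by omega)).pow _ _
    have hd : Nat.card K ∣ Nat.card (K ⊓ normalizer (Q : Set G) : Subgroup G) := by
      rw [← hKc]
      exact hcop.mul_dvd_of_dvd_of_dvd (card_dvd_of_le (le_inf (part_le 2 K) h2N))
        (card_dvd_of_le (le_inf (part_le q K) (hle.trans le_normalizer)))
    exact le_trans (eq_of_le_of_card_ge inf_le_left (Nat.le_of_dvd Nat.card_pos hd)).ge inf_le_right
  by_cases hQex : ∃ K, Inv x K ∧ ∃ g ∈ K, ¬ ∃ k : ℕ, g ^ 2 ^ k = 1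
  swap
  · push Not at hQex
    have hsub : {g : G | g ≠ 1 ∧ ∃ K, Inv x K ∧ g ∈ K} ⊆ ↑U := by
      rintro g ⟨hg1, K, hK, hg⟩
      exact h2 K hK g hg hg1 (hQex K hK g hg)
    have := Set.ncard_le_ncard hsub
    rw [Set.ncard_coe_finset] at this
    simp only [bnd]
    omega
  obtain ⟨K1, hK1, g1, hg1, hg1k⟩ := hQex
  obtain ⟨Q1, hQ1, hle1⟩ := exists_maxQ (inv_part (p := q) hK1 (h.inv_nilpotent hK1)) part_isPGroup
  have hQ1ne : Q1 ≠ ⊥ := fun e => (hq' K1 hK1 g1 hg1 hg1k).1 (le_bot_iff.1 (e ▸ hle1))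
  obtain ⟨hqt, hQ1c, F1, L1, -, -⟩ := h.maxQ_data hs hna hq5 ha hcard hQ1.1 hQ1.2.1 hQ1.2.2 hQ1ne
  obtain ⟨T, hT, hTmem⟩ := h.exists_orbit L1
  let E : Subgroup G → Finset G := fun R => Finset.univ.filter fun g =>
    (¬ ∃ k : ℕ, g ^ 2 ^ k = 1) ∧ ∃ F, Loc x (normalizer (R : Set G)) F ∧ g ∈ F
  let T' := T.filter fun R => (Inv x R ∧ IsPGroup q R ∧ ∀ L, Inv x L → IsPGroup q L → R ≤ L → L = R) ∧
    R ≠ ⊥
  have hEc : ∀ R ∈ T', (E R).card ≤ 4 * (q ^ b - 1) := by
    intro R hR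
    obtain ⟨hR1, hRne⟩ := (Finset.mem_filter.1 hR).2
    obtain ⟨-, hRc, F, L, hF4, hFc⟩ := h.maxQ_data hs hna hq5 ha hcard hR1.1 hR1.2.1 hR1.2.2 hRne
    have hsub : E R ⊆ (Finset.univ.filter (· ∈ F)) \ (Finset.univ.filter (· ∈ part 2 F)) := by
      intro g hg
      obtain ⟨hgk, F', L', hgF'⟩ := (Finset.mem_filter.1 hg).2
      simp only [Finset.mem_sdiff, Finset.mem_filter, Finset.mem_univ, true_and]
      exact ⟨L.absorb F' L'.inv L'.le hgF', fun hm => hgk ((mem_part L.nil).1 hm).2⟩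
    refine (Finset.card_le_card hsub).trans ?_
    rw [Finset.card_sdiff_of_subset (fun g hg => by
        simp only [Finset.mem_filter, Finset.mem_univ, true_and] at hg ⊢
        exact part_le 2 F hg),
      ← Fintype.card_subtype, ← Fintype.card_subtype, ← Nat.card_eq_fintype_card,
      ← Nat.card_eq_fintype_card, hFc]
    rw [show Nat.card (part 2 F) * q ^ b - Nat.card (part 2 F) = Nat.card (part 2 F) * (q ^ b - 1) by
      rw [Nat.mul_sub, mul_one]]
    exact Nat.mul_le_mul_right _ hF4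
  have hsub : {g : G | g ≠ 1 ∧ ∃ K, Inv x K ∧ g ∈ K} ⊆ ↑(U ∪ T'.biUnion E) := by
    rintro g ⟨hg1', K, hK, hg⟩
    rw [Finset.coe_union]
    by_cases hk : ∃ k : ℕ, g ^ 2 ^ k = 1
    · exact Or.inl (h2 K hK g hg hg1' hk)
    refine Or.inr ?_
    obtain ⟨hne, hKN⟩ := hq' K hK g hg hk
    obtain ⟨R, hR, hle⟩ := exists_maxQ (inv_part (p := q) hK (h.inv_nilpotent hK)) part_isPGroup
    have hRne : R ≠ ⊥ := fun e => hne (le_bot_iff.1 (e ▸ hle))
    obtain ⟨-, hRc, F, L, -, -⟩ := h.maxQ_data hs hna hq5 ha hcard hR.1 hR.2.1 hR.2.2 hRne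
    obtain ⟨c, hc⟩ : ∃ c : G, SelfCentThree.cj c Q1 = R := by
      obtain ⟨S1, hS1⟩ := hQ1.2.1.exists_le_sylow
      obtain ⟨S2, hS2⟩ := hR.2.1.exists_le_sylow
      obtain ⟨c, hc⟩ := MulAction.exists_smul_eq G S1 S2
      have hSc : ∀ S' : Sylow q G, Nat.card S' = q ^ b := fun S' => by
        rw [S'.card_eq_multiplicity, hcard, mul_assoc,
          Nat.factorization_mul (by norm_num) (mul_ne_zero (by positivity)
            (pow_ne_zero _ (Fact.out : q.Prime).ne_zero)),
          Finsupp.add_apply, (factorization_two_q (Fact.out : q.Prime) (by omega)).2,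
          Nat.factorization_eq_zero_of_not_dvd (fun hd => ?_), zero_add]
        have := Nat.le_of_dvd (by norm_num) hd
        have := (Fact.out : q.Prime)
        interval_cases q <;> first | omega | exact absurd this (by norm_num)
      have e1 : Q1 = (S1 : Subgroup G) := eq_of_le_of_card_ge hS1 (by rw [hQ1c]; exact (hSc S1).le)
      have e2 : R = (S2 : Subgroup G) := eq_of_le_of_card_ge hS2 (by rw [hRc]; exact (hSc S2).le)
      refine ⟨c, ?_⟩
      rw [e1, e2, ← hc, Sylow.coe_subgroup_smul]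
      rfl
    refine Finset.mem_biUnion.2 ⟨R, Finset.mem_filter.2 ⟨hc ▸ hTmem c (hc.symm ▸ hR.1), hR, hRne⟩, ?_⟩
    exact Finset.mem_filter.2 ⟨Finset.mem_univ _, hk, F, L, L.absorb K hK (hKN R hR hle) hg⟩
  have h3 := Set.ncard_le_ncard hsub
  rw [Set.ncard_coe_finset] at h3
  have h4 := Finset.card_union_le U (T'.biUnion E)
  have h5 : (T'.biUnion E).card ≤ 6 * (4 * (q ^ b - 1)) :=
    (Finset.card_biUnion_le_card_mul _ _ _ hEc).trans
      (Nat.mul_le_mul_right _ ((Finset.card_filter_le _ _).trans hT))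
  simp only [bnd, hqt, if_true]
  omega

end Classical

end Cfsg.Agent.NineEight
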